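import Groth.Agent.CdpLib.AS
import Groth.Agent.S0657
import Groth.Agent.S0653
import Groth.Agent.S0648
import Groth.Agent.ZMTFactorLib.Extend
import Groth.Agent.EtTraceLib.Coh
import Groth.Agent.EtTraceLib.GalEasy

/-!
# Pieces `j_! c_* G` for locally constant `G`
-/

set_option autoImplicit false
set_option backward.isDefEq.respectTransparency false
set_option backward.isDefEq.respectTransparency.types false
set_option linter.style.haveILetI false
set_option maxHeartbeats 800000
set_option synthInstance.maxHeartbeats 400000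

universe u

open CategoryTheory CategoryTheory.Limits AlgebraicGeometry Opposite CategoryTheory.Abelian

noncomputable section

namespace Groth.Agent.CdpLib

instance preservesFiniteColimits_push {X Y : Scheme.{u}} (f : X ⟶ Y) [IsIntegralHom f] :
    PreservesFiniteColimits (EtCoh.push f) := by
  haveI : (EtCoh.push f).PreservesEpimorphisms := S6634.result f
  haveI : (EtCoh.push f).IsRightAdjoint := (EtCoh.pullPushAdj f).isRightAdjoint
  haveI : (EtCoh.push f).PreservesHomology := Functor.preservesHomology_of_preservesEpis_and_kernels _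
  exact Functor.preservesFiniteColimits_of_preservesHomology _

instance preservesFiniteLimits_push {X Y : Scheme.{u}} (f : X ⟶ Y) : PreservesFiniteLimits (EtCoh.push f) :=
  haveI := (EtCoh.pullPushAdj f).rightAdjoint_preservesLimits.{0, 0}
  PreservesLimitsOfSize.preservesFiniteLimits _

/-- Transport of vanishing along isomorphisms. -/
theorem subsingleton_H_of_iso {X : Scheme.{u}} {F G : EtCoh.Ab X} (e : F ≅ G) (q : ℕ)
    [hG : Subsingleton (EtCoh.H X G q)] : Subsingleton (EtCoh.H X F q) :=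
  @Equiv.subsingleton _ _ ((Sheaf.functorH _ q).mapIso e).addCommGroupIsoToAddEquiv.toEquiv hG

/-- Constants push forward to constants along isomorphisms of schemes. -/
theorem nonempty_push_const_iso {V W : Scheme.{u}} (e : V ⟶ W) [IsIso e] (M : Type) [AddCommGroup M] :
    Nonempty ((EtCoh.push e).obj (EtCoh.const V M) ≅ EtCoh.const W M) := by
  let η := (EtCoh.pullPushAdj e).unit.app (EtCoh.const W M)
  have hb : ∀ (Ω : Type u) [Field Ω] [IsSepClosed Ω] (ξ : Spec (CommRingCat.of Ω) ⟶ W),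
      Function.Bijective ((EtCoh.stalk ξ).map η) := fun Ω _ _ ξ => by
    obtain ⟨ζ, rfl⟩ := EtPtsLib.exists_comp_eq_closed e ξ ⟨inv e (ξ default), by
      rw [← Scheme.Hom.comp_apply, IsIso.inv_hom_id]; rfl⟩
    haveI := EtPtsLib.isIso_stalk_unit (A := AddCommGrpCat.{u + 1}) e ζ
      (EtPtsLib.liftsLocally_of_isImmersion e) (EtPtsLib.bcInducing_of_isImmersion e) (EtCoh.const W M)
    exact ConcreteCategory.bijective_of_isIso _
  haveI : Mono η := (EtPtsLib.mono_iff_ab η).2 fun Ω _ _ ξ => (hb Ω ξ).1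
  haveI : Epi η := (EtPtsLib.epi_iff_ab η).2 fun Ω _ _ ξ => (hb Ω ξ).2
  haveI : IsIso η := isIso_of_mono_of_epi η
  exact ⟨(EtCoh.push e).mapIso (EtCore.pullConst e M).symm ≪≫ (asIso η).symm⟩

variable (p : ℕ) [hp : Fact p.Prime]

/-- Extension by zero of constants along an open immersion into a scheme of small coherent dimension. -/
theorem subsingleton_H_extZero_open {V T : Scheme.{u}} (j : V ⟶ T) [IsOpenImmersion j] [EtShriek.JCont j]
    (h0 : (p : Γ(T, ⊤)) = 0) {d : ℕ} (h : QCVanish T d) (q : ℕ) (hq : d + 1 < q) :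
    Subsingleton (EtCoh.H T ((EtShriek.extZero j).obj (EtCoh.const V (ZMod p))) q) := by
  let U := j.opensRange
  haveI := EtJCont.jCont U.ι
  let Zc : TopologicalSpace.Closeds T := ⟨(U : Set T)ᶜ, U.isOpen.isClosed_compl⟩
  let i := (Scheme.IdealSheafData.vanishingIdeal Zc).subschemeι
  have hU : (U : Set T) = (Set.range i.base)ᶜ := by
    rw [show Set.range i.base = (U : Set T)ᶜ from (Scheme.IdealSheafData.range_subschemeι _).trans
      (Scheme.IdealSheafData.coe_support_vanishingIdeal Zc), compl_compl]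
  have hvan := subsingleton_H_extZero p i U hU h0 h q hq
  let e : V ⟶ U.toScheme := j.isoOpensRange.hom
  obtain ⟨c⟩ := nonempty_push_const_iso e (ZMod p)
  obtain ⟨w⟩ := S0653.result (𝟙 T) U.ι j e
    (IsOpenImmersion.isPullback e j U.ι (𝟙 T) (by simp [e, U]) (by simp [U])).flip (EtCoh.const V (ZMod p))
  haveI := subsingleton_H_of_iso (w ≪≫ (EtShriek.extZero U.ι).mapIso c) q
  obtain ⟨ε⟩ := EtVanish.nonempty_H_push_equiv (𝟙 T) ((EtShriek.extZero j).obj (EtCoh.const V (ZMod p))) q
  exact ε.symm.toEquiv.subsingleton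

/-- Extensions by zero of constants have no cohomology in degree `q` on schemes finite over `X`. -/
def ConstVanish (X : Scheme.{u}) (q : ℕ) : Prop :=
  ∀ ⦃T V : Scheme.{u}⦄ (π : T ⟶ X) [IsFinite π] (j : V ⟶ T) [IsOpenImmersion j] [EtShriek.JCont j],
    Subsingleton (EtCoh.H T ((EtShriek.extZero j).obj (EtCoh.const V (ZMod p))) q)

/-- The bound from the coherent cohomological dimension. -/
theorem constVanish_of_qcVanish {X : Scheme.{u}} (h0 : (p : Γ(X, ⊤)) = 0) {d : ℕ} (h : QCVanish X d) (q : ℕ)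
    (hq : d + 1 < q) : ConstVanish p X q := fun _ _ π _ j _ _ =>
  subsingleton_H_extZero_open p j (by rw [← map_natCast π.appTop.hom p, h0, map_zero]) (QCVanish.of_affine π h) q hq

/-- The vanishing for constants on a finite scheme over an open subscheme. -/
theorem subsingleton_H_extZero_push_const {X U V : Scheme.{u}} [CompactSpace X] [QuasiSeparatedSpace X]
    (j : U ⟶ X) [IsOpenImmersion j] [QuasiCompact j] [EtShriek.JCont j] (g : V ⟶ U) [IsFinite g]
    {q : ℕ} (h : ConstVanish p X q) :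
    Subsingleton (EtCoh.H X ((EtShriek.extZero j).obj ((EtCoh.push g).obj (EtCoh.const V (ZMod p)))) q) := by
  haveI : QuasiCompact j.opensRange.ι := by
    rw [show j.opensRange.ι = j.isoOpensRange.inv ≫ j from (j.isoOpensRange_inv_comp).symm]
    infer_instance
  obtain ⟨T, j', π, hj', hπ, hw, hrange⟩ :=
    ZMTFactorLib.exists_finite_extend j.opensRange (g ≫ j.isoOpensRange.hom)
  haveI := hj'
  haveI := hπ
  haveI := EtJCont.jCont j'
  have hw' : j' ≫ π = g ≫ j := by
    rw [hw, Category.assoc]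
    exact congrArg (g ≫ ·) (by simp)
  have hsq : IsPullback j' g π j :=
    (IsOpenImmersion.isPullback g j' j π hw' (TopologicalSpace.Opens.ext hrange)).flip
  obtain ⟨e⟩ := S0653.result π j j' g hsq (EtCoh.const V (ZMod p))
  haveI := h π j'
  obtain ⟨ε⟩ := EtVanish.nonempty_H_push_equiv π ((EtShriek.extZero j').obj (EtCoh.const V (ZMod p))) q
  haveI : Subsingleton (EtCoh.H X ((EtCoh.push π).obj ((EtShriek.extZero j').obj (EtCoh.const V (ZMod p)))) q) :=
    ε.toEquiv.subsingleton
  exact subsingleton_H_of_iso e.symm q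

/-- The number of points of a geometric fibre is the number of its lifts. -/
theorem card_pullback_eq {X' X : Scheme.{u}} (π : X' ⟶ X) [IsFinite π] [AlgebraicGeometry.Etale π]
    (Ω : Type u) [Field Ω] [IsAlgClosed Ω] (ξ : Spec (CommRingCat.of Ω) ⟶ X) :
    Nat.card ↥(pullback π ξ) = Nat.card {t : Spec (CommRingCat.of Ω) ⟶ X' // t ≫ π = ξ} := by
  let P := pullback π ξ
  let q : P ⟶ Spec (CommRingCat.of Ω) := pullback.snd π ξ
  haveI : DiscreteTopology P := by
    haveI : LocallyQuasiFinite q := EtFibCard.locallyQuasiFinite_of_etale q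
    have h := q.isDiscrete_preimage_singleton default
    rw [show ⇑q ⁻¹' {default} = Set.univ from Set.eq_univ_of_forall fun y => Subsingleton.elim _ _] at h
    haveI := h.to_subtype
    exact (Homeomorph.Set.univ P).discreteTopology
  let e₁ : {t : Spec (CommRingCat.of Ω) ⟶ X' // t ≫ π = ξ} ≃ {r : Spec (CommRingCat.of Ω) ⟶ P // r ≫ q = 𝟙 _} :=
    { toFun := fun a => ⟨pullback.lift a.1 (𝟙 _) (a.2.trans (Category.id_comp _).symm), pullback.lift_snd _ _ _⟩
      invFun := fun r => ⟨r.1 ≫ pullback.fst π ξ, by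
        rw [Category.assoc, pullback.condition, ← Category.assoc, r.2, Category.id_comp]⟩
      left_inv := fun a => Subtype.ext (pullback.lift_fst _ _ _)
      right_inv := fun r => Subtype.ext (pullback.hom_ext (pullback.lift_fst _ _ _)
        ((pullback.lift_snd _ _ _).trans r.2.symm)) }
  have e₂ : closedPoints P ≃ P := Equiv.subtypeUnivEquiv fun x => isClosed_discrete {x}
  exact (Nat.card_congr (e₁.trans ((pointEquivClosedPoint q).trans e₂))).symm

omit hp in
/-- Vanishing along a chain with vanishing quotients. -/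
theorem subsingleton_H_of_chain {X Y : Scheme.{u}} (Ψ : EtCoh.Ab Y ⥤ EtCoh.Ab X) [Ψ.Additive]
    [PreservesFiniteLimits Ψ] [PreservesFiniteColimits Ψ] (A : EtCoh.Ab Y) (q : ℕ)
    (hA : Subsingleton (EtCoh.H X (Ψ.obj A) q)) (n : ℕ) (G : ℕ → EtCoh.Ab Y) (φ : ∀ i, G i ⟶ G (i + 1))
    (h0 : IsZero (G 0)) (hG : ∀ i, i < n → Mono (φ i) ∧ Nonempty (cokernel (φ i) ≅ A)) :
    Subsingleton (EtCoh.H X (Ψ.obj (G n)) q) := by
  induction n with
  | zero =>
    refine subsingleton_of_forall_eq 0 fun x => ?_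
    rw [← Ext.comp_mk₀_id x, (Ψ.map_isZero h0).eq_of_src (𝟙 (Ψ.obj (G 0))) 0, Ext.mk₀_zero, Ext.comp_zero]
  | succ n ih =>
    obtain ⟨hm, ⟨e⟩⟩ := hG n (Nat.lt_succ_self n)
    haveI := hm
    let S : ShortComplex (EtCoh.Ab Y) := ShortComplex.mk (φ n) (cokernel.π (φ n)) (cokernel.condition _)
    have hS : S.ShortExact := { exact := ShortComplex.exact_of_g_is_cokernel S (cokernelIsCokernel _) }
    haveI := ih fun i hi => hG i (Nat.lt_succ_of_lt hi)
    haveI := hA
    haveI h3 : Subsingleton (EtCoh.H X (Ψ.obj (cokernel (φ n))) q) := subsingleton_H_of_iso (Ψ.mapIso e) q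
    refine subsingleton_of_forall_eq 0 fun x => ?_
    obtain ⟨y, rfl⟩ := Ext.covariant_sequence_exact₂ _ (hS.map_of_exact Ψ) x (h3.elim _ _)
    rw [Subsingleton.elim (α := EtCoh.H X (Ψ.obj (G n)) q) y 0, Ext.zero_comp]

/-- The pieces on a connected locally closed subscheme. -/
theorem subsingleton_H_piece {X U W : Scheme.{u}} [CompactSpace X] [QuasiSeparatedSpace X] (j : U ⟶ X)
    [IsOpenImmersion j] [QuasiCompact j] [EtShriek.JCont j] (c : W ⟶ U) [IsClosedImmersion c] [ConnectedSpace W]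
    {q : ℕ} (h : ConstVanish p X q) (G : EtCoh.Ab W) (hG : EtCoh.IsFiniteLocallyConstant G)
    (hk : EtCoh.KilledBy p G) :
    Subsingleton (EtCoh.H X ((EtShriek.extZero j).obj ((EtCoh.push c).obj G)) q) := by
  obtain ⟨W', f, hf, he, m, hm, hcard, n, C, φ, h0C, ⟨eC⟩, hC⟩ := S0657.result W p G hG hk
  haveI := hf
  haveI := he
  haveI := EtJCont.jCont f
  have hdeg : EtTraceLib.HasDegree f m := fun Ω _ _ ξ => (card_pullback_eq f Ω ξ).trans (hcard Ω ξ)
  haveI : PreservesFiniteLimits (EtShriek.extZero j) := S0648.result j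
  haveI : PreservesFiniteColimits (EtShriek.extZero j) :=
    haveI := (EtShriek.extZeroAdj j).leftAdjoint_preservesColimits.{0, 0}
    PreservesColimitsOfSize.preservesFiniteColimits _
  let Φ := EtCoh.push c ⋙ EtShriek.extZero j
  haveI : Φ.Additive := Functor.additive_of_preserves_binary_products Φ
  let Ψ := EtCoh.push f ⋙ Φ
  haveI : Ψ.Additive := Functor.additive_of_preserves_binary_products Ψ
  have hconst : Subsingleton (EtCoh.H X (Ψ.obj (EtCoh.const W' (ZMod p))) q) := by
    haveI := subsingleton_H_extZero_push_const p j (f ≫ c) h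
    exact subsingleton_H_of_iso ((EtShriek.extZero j).mapIso ((EtCoh.pushComp c f).app _)) q
  haveI := subsingleton_H_of_chain Ψ _ q hconst n C φ h0C hC
  haveI hpush : Subsingleton (EtCoh.H X (Φ.obj ((EtCoh.push f).obj ((EtShriek.restrAlong f).obj G))) q) :=
    subsingleton_H_of_iso (Ψ.mapIso ((EtPtsLib.pullIsoRestr f).symm.app G ≪≫ eC.symm)) q
  refine subsingleton_of_forall_eq 0 fun x => ?_
  have hdx : m • x = 0 := by
    let c₀ := AddMonoidHom.mk' (fun r : Ext (Φ.obj G) (Φ.obj G) 0 => x.comp r (add_zero q))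
      fun _ _ => Ext.comp_add _ _ _ _
    have h1 : x.comp (Ext.mk₀ (Φ.map ((EtPtsLib.restrPushAdj f).unit.app G ≫ (EtTraceLib.tr f).app G))) (add_zero q) = 0 := by
      rw [Functor.map_comp, ← Ext.mk₀_comp_mk₀, ← Ext.comp_assoc_of_second_deg_zero,
        hpush.elim (x.comp (Ext.mk₀ (Φ.map ((EtPtsLib.restrPushAdj f).unit.app G))) (add_zero q)) 0, Ext.zero_comp]
    rw [EtTraceLib.unit_tr f hdeg G, Functor.map_nsmul, CategoryTheory.Functor.map_id] at h1
    have h2 : c₀ (Ext.addEquiv₀.symm (m • 𝟙 (Φ.obj G))) = 0 := h1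
    rw [map_nsmul, map_nsmul] at h2
    exact (congrArg (m • ·) (Ext.comp_mk₀_id x).symm).trans h2
  have hpx : p • x = 0 := by
    rw [FLCLib.killedBy_iff] at hk
    refine EtTraceLib.nsmul_ext_eq_zero ?_ x
    show p • 𝟙 (Φ.obj G) = 0
    rw [← Φ.map_id G, ← Functor.map_nsmul, hk, Functor.map_zero]
  exact AddMonoid.addOrderOf_eq_one_iff.1 (Nat.eq_one_of_dvd_coprimes hm.symm
    (addOrderOf_dvd_iff_nsmul_eq_zero.2 hdx) (addOrderOf_dvd_iff_nsmul_eq_zero.2 hpx))

end Groth.Agent.CdpLib
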