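import Groth.Agent.DimFormulaLib.Field
import Groth.Agent.DimFormulaLib.Misc

/-!
# Dense open subschemes of schemes of finite type over a field
-/

set_option autoImplicit false
set_option linter.style.haveILetI false

universe u

open CategoryTheory AlgebraicGeometry Topology TopologicalSpace

namespace Groth.Agent.CdpLib

variable {k : Type u} [Field k] {X : Scheme.{u}} (f : X ⟶ Spec (CommRingCat.of k)) [LocallyOfFiniteType f]

include f in
theorem dim_dense_open (U : X.Opens) (hU : Dense (U : Set X)) :
    topologicalKrullDim ↥U = topologicalKrullDim ↥X := by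
  haveI : IsLocallyNoetherian X := LocallyOfFiniteType.isLocallyNoetherian f
  refine le_antisymm (topologicalKrullDim_subspace_le _ _) (DimFormulaLib.topologicalKrullDim_le_of_components _ fun η hη => ?_)
  let C : Closeds X := ⟨closure {η}, isClosed_closure⟩
  let I := Scheme.IdealSheafData.vanishingIdeal C
  let ι := I.subschemeι
  have hr : Set.range ι = closure ({η} : Set X) := (Scheme.IdealSheafData.range_subschemeι _).trans
    (Scheme.IdealSheafData.coe_support_vanishingIdeal C)
  let e : ↥I.subscheme ≃ₜ ↥(closure ({η} : Set X)) :=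
    (ι.isClosedEmbedding.isEmbedding.toHomeomorph).trans (Homeomorph.setCongr hr)
  haveI : IrreducibleSpace ↥(closure ({η} : Set X)) :=
    isIrreducible_iff_irreducibleSpace.1 isIrreducible_singleton.closure
  haveI : IrreducibleSpace ↥I.subscheme := e.irreducibleSpace_iff.2 inferInstance
  obtain ⟨z, hz⟩ : η ∈ Set.range ι := hr ▸ subset_closure rfl
  have hne : ((ι ⁻¹ᵁ U : I.subscheme.Opens) : Set I.subscheme).Nonempty :=
    ⟨z, show ι z ∈ U by rw [hz]; exact DimFormulaLib.mem_of_dense U.isOpen hU hη⟩
  have hle : topologicalKrullDim ↥(ι ⁻¹ᵁ U) ≤ topologicalKrullDim ↥U :=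
    IsInducing.topologicalKrullDim_le (f := fun y => (⟨ι y.1, y.2⟩ : ↥U))
      (IsInducing.codRestrict (ι.isClosedEmbedding.isInducing.comp IsInducing.subtypeVal) fun y => y.2)
  rw [← IsHomeomorph.topologicalKrullDim_eq _ e.isHomeomorph,
    ← DimFormulaLib.topologicalKrullDim_opens (ι ≫ f) _ hne]
  exact hle

include f in
/-- A closed subset avoiding a dense open drops the dimension. -/
theorem dim_closed_compl {Z : Scheme.{u}} (i : Z ⟶ X) [IsClosedImmersion i] (U : X.Opens) (hU : Dense (U : Set X))
    (hd : Disjoint (Set.range i) (U : Set X)) (n : ℕ) (hn : topologicalKrullDim ↥X ≤ n) [Nonempty Z] :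
    ∃ m : ℕ, m < n ∧ topologicalKrullDim ↥Z ≤ m := by
  haveI : IsLocallyNoetherian X := LocallyOfFiniteType.isLocallyNoetherian f
  have hn' : ∀ x : X, Order.height x ≤ (n : ℕ∞) := fun x => by
    rw [← WithBot.coe_le_coe, ← DimFormulaLib.topologicalKrullDim_closure_singleton]
    exact (topologicalKrullDim_subspace_le _ _).trans hn
  have key : ∀ z : Z, Order.height z + 1 ≤ (n : ℕ∞) := fun z => by
    obtain ⟨η, hηz, hη⟩ := DimFormulaLib.exists_maximal_point (i z)
    have hne : η ≠ i z := fun h => Set.disjoint_left.1 hd ⟨z, h.symm⟩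
      (DimFormulaLib.mem_of_dense U.isOpen hU hη)
    have hlt : i z < η := lt_of_le_not_ge (Scheme.le_iff_specializes.2 hηz)
      fun h => hne (hη _ (Scheme.le_iff_specializes.1 h)).symm
    have hmono : StrictMono i := fun a b hab => lt_of_le_not_ge
      (Scheme.le_iff_specializes.2 ((Scheme.le_iff_specializes.1 hab.le).map i.continuous))
      fun h => hab.not_ge (Scheme.le_iff_specializes.2
        (i.isClosedEmbedding.isInducing.specializes_iff.1 (Scheme.le_iff_specializes.1 h)))
    exact ((add_le_add_left (Order.height_le_height_apply_of_strictMono i hmono z) 1).trans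
      (Order.height_add_one_le hlt)).trans (hn' η)
  obtain ⟨z⟩ := (inferInstance : Nonempty Z)
  obtain ⟨m, rfl⟩ : ∃ m, n = m + 1 := ⟨n - 1, by
    have h1 : (1 : ℕ∞) ≤ n := le_add_self.trans (key z)
    have : 1 ≤ n := by exact_mod_cast h1
    omega⟩
  refine ⟨m, Nat.lt_succ_self m, ?_⟩
  rw [topologicalKrullDim, Order.krullDim_eq_of_orderIso (irreducibleSetEquivPoints (α := ↥Z)),
    Order.krullDim_eq_iSup_height]
  refine iSup_le fun y => WithBot.coe_le_coe.2 ?_
  exact (ENat.add_le_add_iff_right (ENat.one_ne_top)).1 (by simpa using key y)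

end Groth.Agent.CdpLib
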