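import Groth.Agent.CdpLib.Geom
import Groth.Agent.S8561
import Groth.Agent.S0134
import Groth.Agent.CohColim.EtQC
import Groth.Agent.FLCLib.Present
import Groth.Agent.FLCLib.Basic
import Groth.Agent.EtTraceLib.SepExt
import Groth.Prelude.Def_Dix

/-!
# From locally constant pieces to all `p`-primary torsion sheaves
-/

set_option autoImplicit false
set_option backward.isDefEq.respectTransparency false
set_option backward.isDefEq.respectTransparency.types false
set_option linter.style.haveILetI false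
set_option maxHeartbeats 800000
set_option synthInstance.maxHeartbeats 400000

universe u

open CategoryTheory CategoryTheory.Limits AlgebraicGeometry Opposite CategoryTheory.Abelian TopologicalSpace

noncomputable section

namespace Groth.Agent.CdpLib

theorem killedBy_obj {X Y : Scheme.{u}} (Φ : EtCoh.Ab Y ⥤ EtCoh.Ab X) [Φ.Additive] {n : ℕ} {G : EtCoh.Ab Y}
    (h : EtCoh.KilledBy n G) : EtCoh.KilledBy n (Φ.obj G) := by
  rw [FLCLib.killedBy_iff] at h ⊢
  rw [← Φ.map_id, ← Functor.map_nsmul, h, Functor.map_zero]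

theorem killedBy_of_mono {X : Scheme.{u}} {n : ℕ} {A F : EtCoh.Ab X} (m : A ⟶ F) [Mono m]
    (h : EtCoh.KilledBy n F) : EtCoh.KilledBy n A := by
  rw [FLCLib.killedBy_iff] at h ⊢
  rw [← cancel_mono m, zero_comp, Preadditive.nsmul_comp, Category.id_comp, ← Category.comp_id m,
    ← Preadditive.comp_nsmul, h, comp_zero]

theorem subsingleton_H_of_isZero {X : Scheme.{u}} {F : EtCoh.Ab X} (h : IsZero F) (q : ℕ) :
    Subsingleton (EtCoh.H X F q) :=
  subsingleton_of_forall_eq 0 fun x => by
    rw [← Ext.comp_mk₀_id x, h.eq_of_src (𝟙 F) 0, Ext.mk₀_zero, Ext.comp_zero]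

theorem isZero_of_isEmpty {X : Scheme.{u}} [IsEmpty X] (F : EtCoh.Ab X) : IsZero F :=
  (EtPtsLib.isZero_iff_ab F).2 fun Ω _ _ ξ => isEmptyElim (α := X) (ξ default)

theorem shortExact_middle {X : Scheme.{u}} {S : ShortComplex (EtCoh.Ab X)} (hS : S.ShortExact) (q : ℕ)
    (h1 : Subsingleton (EtCoh.H X S.X₁ q)) (h3 : Subsingleton (EtCoh.H X S.X₃ q)) :
    Subsingleton (EtCoh.H X S.X₂ q) :=
  subsingleton_of_forall_eq 0 fun x => by
    obtain ⟨y, rfl⟩ := Ext.covariant_sequence_exact₂ _ hS x (h3.elim _ _)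
    rw [h1.elim y 0, Ext.zero_comp]

variable (p : ℕ) [hp : Fact p.Prime]

/-- The pieces on arbitrary locally closed subschemes. -/
theorem subsingleton_H_piece' {X U : Scheme.{u}} [CompactSpace X] [QuasiSeparatedSpace X] (j : U ⟶ X)
    [IsOpenImmersion j] [QuasiCompact j] [EtShriek.JCont j] [NoetherianSpace U]
    {q : ℕ} (h : ConstVanish p X q) :
    ∀ (Cl : Closeds U) (W : Scheme.{u}) (c : W ⟶ U) [IsClosedImmersion c], Set.range c = (Cl : Set U) →
      ∀ G : EtCoh.Ab W, EtCoh.IsFiniteLocallyConstant G → EtCoh.KilledBy p G →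
        Subsingleton (EtCoh.H X ((EtShriek.extZero j).obj ((EtCoh.push c).obj G)) q) := by
  intro Cl
  induction Cl using WellFoundedLT.induction with
  | ind Cl ih =>
    intro W c _ hrange G hG hk
    haveI : PreservesFiniteLimits (EtShriek.extZero j) := S0648.result j
    haveI : PreservesFiniteColimits (EtShriek.extZero j) :=
      haveI := (EtShriek.extZeroAdj j).leftAdjoint_preservesColimits.{0, 0}
      PreservesColimitsOfSize.preservesFiniteColimits _
    let Φ := EtCoh.push c ⋙ EtShriek.extZero j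
    haveI : Φ.Additive := Functor.additive_of_preserves_binary_products Φ
    rcases isEmpty_or_nonempty W with hW | hW
    · exact subsingleton_H_of_isZero (Φ.map_isZero (isZero_of_isEmpty G)) q
    by_cases hc : ConnectedSpace W
    · exact subsingleton_H_piece p j c h G hG hk
    obtain ⟨V, hV, hVe, hVu⟩ : ∃ V : Set W, IsClopen V ∧ V ≠ ∅ ∧ V ≠ Set.univ := by
      by_contra hh
      push_neg at hh
      refine hc (connectedSpace_iff_clopen.2 ⟨hW, fun V hV => ?_⟩)
      by_cases hVe : V = ∅
      · exact Or.inl hVe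
      · exact Or.inr (hh V hV (Set.nonempty_iff_ne_empty.2 hVe))
    let B : W.Opens := ⟨V, hV.2⟩
    let C : W.Opens := ⟨Vᶜ, hV.1.isOpen_compl⟩
    haveI : IsClosedImmersion B.ι := IsClosedImmersion.of_isPreimmersion _ (by
      rw [Scheme.Opens.range_ι]; exact hV.1)
    haveI : IsClosedImmersion C.ι := IsClosedImmersion.of_isPreimmersion _ (by
      rw [Scheme.Opens.range_ι]; exact hV.compl.1)
    haveI := EtJCont.jCont B.ι
    have hBC : (B : Set W) = (Set.range C.ι.base)ᶜ := by
      rw [show Set.range C.ι.base = Vᶜ from Scheme.Opens.range_ι C, compl_compl]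
      rfl
    have piece : ∀ (D : W.Opens) [IsClosedImmersion D.ι] (z : W), z ∉ D →
        Subsingleton (EtCoh.H X (Φ.obj ((EtCoh.push D.ι).obj ((EtCoh.pull D.ι).obj G))) q) := by
      intro D _ z hz
      have hlt : (⟨Set.range (D.ι ≫ c), (D.ι ≫ c).isClosedEmbedding.isClosed_range⟩ : Closeds U) < Cl := by
        refine lt_of_le_of_ne (fun x hx => ?_) fun he => ?_
        · obtain ⟨y, rfl⟩ := hx
          exact hrange.le ⟨D.ι y, rfl⟩
        · have : c z ∈ Set.range (D.ι ≫ c) := by
            show c z ∈ ((⟨Set.range (D.ι ≫ c), (D.ι ≫ c).isClosedEmbedding.isClosed_range⟩ : Closeds U) : Set U)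
            rw [he, ← hrange]
            exact ⟨z, rfl⟩
          obtain ⟨y, hy⟩ := this
          exact hz (c.isClosedEmbedding.injective hy ▸ y.2)
      haveI := ih _ hlt _ (D.ι ≫ c) rfl _ (FLCLib.isFiniteLocallyConstant_pull D.ι hG) (killedBy_obj (EtCoh.pull D.ι) hk)
      exact subsingleton_H_of_iso ((EtShriek.extZero j).mapIso ((EtCoh.pushComp c D.ι).app _)) q
    obtain ⟨w, hS⟩ := S0654.result C.ι B hBC G
    refine shortExact_middle (hS.map_of_exact Φ) q ?_ ?_
    · obtain ⟨z, hz⟩ := (Set.ne_univ_iff_exists_notMem V).1 hVu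
      haveI := piece B z hz
      exact subsingleton_H_of_iso (Φ.mapIso ((EtTraceLib.extZeroPushIso B.ι).app _ ≪≫
        (EtCoh.push B.ι).mapIso ((EtPtsLib.pullIsoRestr B.ι).symm.app G))) q
    · obtain ⟨z, hz⟩ := Set.nonempty_iff_ne_empty.2 hVe
      exact piece C z (fun h' => h' hz)

variable {X : Scheme.{u}} [IsNoetherian X]

/-- Constructible sheaves killed by `p`. -/
theorem subsingleton_H_killed {q : ℕ} (h : ConstVanish p X q) (F : EtCoh.Ab X)
    (hF : EtPBC.IsConstructible F) (hk : EtCoh.KilledBy p F) :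
    Subsingleton (EtCoh.H X F q) := by
  obtain ⟨n, E, ι, hE0, ⟨eF⟩, hE⟩ := S8561.result F hF
  have hkE : ∀ k : Fin (n + 1), EtCoh.KilledBy p (E k) := fun k => by
    induction k using Fin.reverseInduction with
    | last => exact killedBy_of_mono eF.hom hk
    | cast k ih =>
      obtain ⟨U, W, j, _, c, _, G, π, hz, -, -, hS⟩ := hE k
      haveI := hS.mono_f
      exact killedBy_of_mono (ι k) ih
  suffices ∀ k : Fin (n + 1), Subsingleton (EtCoh.H X (E k) q) by
    haveI := this (Fin.last n)
    exact subsingleton_H_of_iso eF.symm q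
  intro k
  induction k using Fin.induction with
  | zero => exact subsingleton_H_of_isZero hE0 q
  | succ k ih =>
    obtain ⟨U, W, j, _, c, _, G, π, hz, -, hG, hS⟩ := hE k
    refine shortExact_middle hS q ih ?_
    haveI := EtJCont.jCont j
    haveI : NoetherianSpace U := j.isOpenEmbedding.isInducing.noetherianSpace
    haveI := hS.epi_g
    have hkG : EtCoh.KilledBy p G := by
      have h1 : EtCoh.KilledBy p ((EtShriek.extZero j).obj ((EtCoh.push c).obj G)) :=
        FLCLib.killedBy_of_epi π (hkE k.succ)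
      haveI := EtPtsLib.isIso_unit_extZero j
      haveI : (EtShriek.restrAlong j).Additive := (EtShriek.extZeroAdj j).right_adjoint_additive
      haveI := EtPtsLib.isIso_counit_immersion c G
      exact killedBy_of_mono (inv ((EtCoh.pullPushAdj c).counit.app G)) (killedBy_obj (EtCoh.pull c)
        (killedBy_of_mono ((EtShriek.extZeroAdj j).unit.app ((EtCoh.push c).obj G)) (killedBy_obj (EtShriek.restrAlong j) h1)))
    exact subsingleton_H_piece' p j h ⟨Set.range c, c.isClosedEmbedding.isClosed_range⟩ W c rfl G hG hkG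

/-- Constructible sheaves killed by a power of `p`. -/
theorem subsingleton_H_killed_pow {q : ℕ} (h : ConstVanish p X q) :
    ∀ (a : ℕ) (F : EtCoh.Ab X), EtPBC.IsConstructible F → EtCoh.KilledBy (p ^ a) F →
      Subsingleton (EtCoh.H X F q) := by
  intro a
  induction a with
  | zero =>
    intro F _ hk
    rw [FLCLib.killedBy_iff, pow_zero, one_nsmul] at hk
    exact subsingleton_H_of_isZero ((IsZero.iff_id_eq_zero F).2 hk) q
  | succ a ih =>
    intro F hF hk
    let φ : F ⟶ F := p • 𝟙 F
    let S : ShortComplex (EtCoh.Ab X) :=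
      ShortComplex.mk (kernel.ι (cokernel.π φ)) (cokernel.π φ) (kernel.condition _)
    have hS : S.ShortExact := { exact := ShortComplex.exact_of_f_is_kernel S (kernelIsKernel _) }
    have hc := (FLCLib.isConstructible_kernel_cokernel φ hF hF).2
    refine shortExact_middle hS q (ih _ (FLCLib.isConstructible_kernel_cokernel (cokernel.π φ) hF hc).1 ?_)
      (subsingleton_H_killed p h _ hc ?_)
    · rw [FLCLib.killedBy_iff] at hk ⊢
      let e : F ⟶ kernel (cokernel.π φ) := Abelian.factorThruImage φ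
      have he : e ≫ kernel.ι (cokernel.π φ) = φ := Abelian.image.fac φ
      haveI : Epi e := inferInstanceAs (Epi (Abelian.factorThruImage φ))
      rw [← cancel_epi e, comp_zero, Preadditive.comp_nsmul, Category.comp_id, ← cancel_mono (kernel.ι (cokernel.π φ)),
        zero_comp, Preadditive.nsmul_comp, he, smul_smul, ← pow_succ, hk]
    · rw [FLCLib.killedBy_iff, ← cancel_epi (cokernel.π φ), comp_zero, Preadditive.comp_nsmul, Category.comp_id,
        ← Category.id_comp (cokernel.π φ), ← Preadditive.nsmul_comp]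
      exact cokernel.condition φ

/-- All `p`-primary torsion sheaves. -/
theorem cohDimLEAt_of_constVanish {n : ℕ} (h : ∀ q, n < q → ConstVanish p X q) : Dix.CohDimLEAt X p n := by
  intro F hF q hq
  have htor : EtCoh.IsTorsion F := fun U s x => by
    obtain ⟨V, g, hv, k, hk⟩ := hF U s x
    exact ⟨V, g, hv, isOfFinAddOrder_iff_nsmul_eq_zero.2 ⟨p ^ k, pow_pos hp.out.pos k, hk⟩⟩
  obtain ⟨J, _, _, D, c, hc, hD, ⟨e⟩⟩ := S0134.result X F htor
  haveI := CohColim.preserves_HF (X := X) q J
  refine subsingleton_of_forall_eq 0 fun x => ?_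
  obtain ⟨i, z, hz⟩ := Concrete.isColimit_exists_rep _ (isColimitOfPreserves (EtCoh.HF X q) hc)
    (x.comp (Ext.mk₀ e.inv) (add_zero q))
  let y : EtCoh.H X (D.obj i) q := z
  let g : D.obj i ⟶ F := c.ι.app i ≫ e.hom
  have hy : y.comp (Ext.mk₀ g) (add_zero q) = x := by
    have hz' : y.comp (Ext.mk₀ (c.ι.app i)) (add_zero q) = x.comp (Ext.mk₀ e.inv) (add_zero q) := hz
    rw [← Ext.mk₀_comp_mk₀, ← Ext.comp_assoc_of_second_deg_zero, hz', Ext.comp_assoc_of_second_deg_zero,
      Ext.mk₀_comp_mk₀, Iso.inv_hom_id, Ext.comp_mk₀_id]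
  obtain ⟨N, hN, hkN⟩ := FLCLib.exists_killedBy (hD i)
  obtain ⟨a, b, hb, rfl⟩ := Nat.exists_eq_pow_mul_and_not_dvd hN.ne' p hp.out.ne_one
  let Q := cokernel ((p ^ a) • 𝟙 (D.obj i))
  have hg : ((p ^ a) • 𝟙 (D.obj i)) ≫ g = 0 := by
    refine ObjectProperty.hom_ext _ (NatTrans.ext (funext fun U => ConcreteCategory.hom_ext _ _ fun s => ?_))
    let t : EtCoh.sect F U.unop := g.hom.app U ((p ^ a) • s)
    show t = 0
    refine EtTraceLib.sect_eq_zero_of_locally F t fun x => ?_
    obtain ⟨V, m, hv, k, hk⟩ := hF U.unop t x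
    refine ⟨V, m, hv, ?_⟩
    have hbt : b • t = 0 := by
      show b • g.hom.app U ((p ^ a) • s) = 0
      rw [← map_nsmul, smul_smul, mul_comm, hkN U.unop s, map_zero]
    have h1 : b • F.obj.map m.op t = 0 := by rw [← map_nsmul, hbt, map_zero]
    exact AddMonoid.addOrderOf_eq_one_iff.1 (Nat.eq_one_of_dvd_coprimes
      (((Nat.Prime.coprime_iff_not_dvd hp.out).2 hb).pow_left k)
      (addOrderOf_dvd_iff_nsmul_eq_zero.2 hk) (addOrderOf_dvd_iff_nsmul_eq_zero.2 h1))
  have hQ : EtCoh.KilledBy (p ^ a) Q := by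
    rw [FLCLib.killedBy_iff, ← cancel_epi (cokernel.π ((p ^ a) • 𝟙 (D.obj i))), comp_zero,
      Preadditive.comp_nsmul, Category.comp_id, ← Category.id_comp (cokernel.π ((p ^ a) • 𝟙 (D.obj i))),
      ← Preadditive.nsmul_comp]
    exact cokernel.condition _
  haveI := subsingleton_H_killed_pow p (h q hq) a Q (FLCLib.isConstructible_kernel_cokernel _ (hD i) (hD i)).2 hQ
  rw [← hy, ← cokernel.π_desc _ g hg, ← Ext.mk₀_comp_mk₀, ← Ext.comp_assoc_of_second_deg_zero,
    Subsingleton.elim (α := EtCoh.H X Q q) (y.comp (Ext.mk₀ (cokernel.π ((p ^ a) • 𝟙 (D.obj i)))) (add_zero q)) 0,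
    Ext.zero_comp]

/-- The bound by the coherent cohomological dimension plus one. -/
theorem cohDimLEAt (h0 : (p : Γ(X, ⊤)) = 0) {d : ℕ} (h : QCVanish X d) : Dix.CohDimLEAt X p (d + 1) :=
  cohDimLEAt_of_constVanish p fun q hq => constVanish_of_qcVanish p h0 h q hq

end Groth.Agent.CdpLib
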