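import Groth.Agent.CdpLib.ZarAS
import Groth.Agent.CdpLib.DimDense
import Groth.Agent.DimLiftLib.Basic
import Groth.Agent.CdpLib.Reduce

/-!
# Vanishing above the dimension over a separably closed field
-/

set_option autoImplicit false
set_option backward.isDefEq.respectTransparency false
set_option backward.isDefEq.respectTransparency.types false
set_option linter.style.haveILetI false
set_option maxHeartbeats 800000
set_option synthInstance.maxHeartbeats 400000

universe u

open CategoryTheory CategoryTheory.Limits AlgebraicGeometry Opposite CategoryTheory.Abelian TopologicalSpace Topology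

noncomputable section

namespace Groth.Agent.CdpLib

variable (k : Type u) [Field k]

/-- `T` is an open subscheme of a proper `k`-scheme. -/
def HasCompl (T : Scheme.{u}) : Prop :=
  ∃ (Y : Scheme.{u}) (g : Y ⟶ Spec (CommRingCat.of k)) (j : T ⟶ Y), IsProper g ∧ IsOpenImmersion j

variable {k}

theorem isNoetherian_of_proper {Y : Scheme.{u}} (g : Y ⟶ Spec (CommRingCat.of k)) [IsProper g] : IsNoetherian Y :=
  haveI : IsLocallyNoetherian Y := LocallyOfFiniteType.isLocallyNoetherian g
  haveI : CompactSpace Y := QuasiCompact.compactSpace_of_compactSpace g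
  {}

theorem HasCompl.isNoetherian {T : Scheme.{u}} (h : HasCompl k T) : IsNoetherian T := by
  obtain ⟨Y, g, j, hg, hj⟩ := h
  haveI := isNoetherian_of_proper g
  haveI : IsLocallyNoetherian T := isLocallyNoetherian_of_isOpenImmersion j
  haveI : CompactSpace T :=
    haveI : NoetherianSpace T := j.isOpenEmbedding.isInducing.noetherianSpace
    inferInstance
  constructor

/-- Schemes finite over a scheme with a compactification have one. -/
theorem HasCompl.of_finite {T X : Scheme.{u}} (π : T ⟶ X) [IsFinite π] (h : HasCompl k X) : HasCompl k T := by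
  obtain ⟨Y, g, j, hg, hj⟩ := h
  haveI := isNoetherian_of_proper g
  haveI : QuasiCompact j.opensRange.ι := inferInstance
  obtain ⟨Y', j', π', hj', hπ', -, -⟩ := ZMTFactorLib.exists_finite_extend j.opensRange (π ≫ j.isoOpensRange.hom)
  haveI := hπ'
  exact ⟨Y', π' ≫ g, j', inferInstance, hj'⟩

/-- A compactification of the same dimension. -/
theorem HasCompl.exists_dim {T : Scheme.{u}} (h : HasCompl k T) :
    ∃ (Y : Scheme.{u}) (g : Y ⟶ Spec (CommRingCat.of k)) (j : T ⟶ Y), IsProper g ∧ IsOpenImmersion j ∧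
      topologicalKrullDim ↥Y = topologicalKrullDim ↥T := by
  obtain ⟨Y, g, j, hg, hj⟩ := h
  haveI := isNoetherian_of_proper g
  haveI : QuasiCompact j := inferInstance
  refine ⟨j.image, j.imageι ≫ g, j.toImage, inferInstance, inferInstance, ?_⟩
  rw [← dim_dense_open (j.imageι ≫ g) j.toImage.opensRange j.toImage.denseRange]
  exact (IsHomeomorph.topologicalKrullDim_eq _ j.toImage.isOpenEmbedding.isEmbedding.toHomeomorph.isHomeomorph).symm

theorem exists_dim_eq_nat {T : Scheme.{u}} [Nonempty T] {n : ℕ} (hn : topologicalKrullDim ↥T ≤ n) :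
    ∃ d : ℕ, d ≤ n ∧ topologicalKrullDim ↥T = d := by
  obtain ⟨z⟩ := (inferInstance : Nonempty T)
  have h0 : (Order.height z : WithBot ℕ∞) ≤ topologicalKrullDim ↥T := by
    rw [← DimFormulaLib.topologicalKrullDim_closure_singleton]
    exact topologicalKrullDim_subspace_le _ _
  generalize topologicalKrullDim ↥T = D at h0 hn
  induction D using WithBot.recBotCoe with
  | bot => exact absurd (le_bot_iff.1 h0) WithBot.coe_ne_bot
  | coe a =>
    have ha : a ≤ (n : ℕ∞) := WithBot.coe_le_coe.1 hn
    lift a to ℕ using ne_top_of_le_ne_top (ENat.coe_ne_top n) ha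
    exact ⟨a, by exact_mod_cast ha, rfl⟩

theorem qcVanish_of_dim {T : Scheme.{u}} [CompactSpace T] [QuasiSeparatedSpace T] {d : ℕ}
    (hd : topologicalKrullDim ↥T ≤ d) : QCVanish T d := fun M _ q hq => by
  haveI : SpectralSpace ↥T.toTopCat := { (inferInstance : CompactSpace ↥T), (inferInstance : QuasiSober ↥T),
    (inferInstance : QuasiSeparatedSpace ↥T), (inferInstance : PrespectralSpace ↥T), (inferInstance : T0Space ↥T) with }
  exact S0469.result (X := T.toTopCat) d hd (Coh.toAb M) q hq

variable (p : ℕ) [hp : Fact p.Prime] [CharP k p] [IsSepClosed k]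

/-- Constants have no cohomology above the dimension. -/
theorem subsingleton_H_const_top {T : Scheme.{u}} (h : HasCompl k T) (n : ℕ) (hn : topologicalKrullDim ↥T ≤ n)
    (q : ℕ) (hq : n < q) : Subsingleton (EtCoh.H T (EtCoh.const T (ZMod p)) q) := by
  rcases isEmpty_or_nonempty T with hT | hT
  · exact EtTraceLib.ASProper.subsingleton_H_of_isEmpty _ q
  obtain ⟨d, hdn, hd⟩ := exists_dim_eq_nat hn
  haveI := h.isNoetherian
  obtain ⟨Y, g, j, hg, hj, hY⟩ := h.exists_dim
  have h0 := EtTraceLib.ASProper.natCast_eq_zero p k g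
  have h0T : (p : Γ(T, ⊤)) = 0 := by rw [← map_natCast j.appTop.hom p, h0, map_zero]
  by_cases hd1 : d + 1 < q
  · exact subsingleton_H_const p h0T (qcVanish_of_dim hd.le) q hd1
  obtain rfl : q = d + 1 := by omega
  haveI := isNoetherian_of_proper g
  let U := j.opensRange
  let e : T ⟶ U.toScheme := j.isoOpensRange.hom
  haveI : Nonempty U.toScheme := ⟨e (Classical.arbitrary T)⟩
  have h0U : (p : Γ(U.toScheme, ⊤)) = 0 := by rw [← map_natCast U.ι.appTop.hom p, h0, map_zero]
  haveI := charP_of_natCast p h0U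
  haveI : EtZar.ZarCont Y := EtTraceLib.zarCont Y
  haveI : EtZar.ZarCont U.toScheme := EtTraceLib.zarCont _
  haveI : CompactSpace U.toScheme := isCompact_iff_compactSpace.1 (NoetherianSpace.isCompact (U : Set Y))
  haveI : QuasiSeparatedSpace U.toScheme := quasiSeparatedSpace_of_quasiSeparated U.ι
  have hsur := (surjective_AS_iff p hp.out h0U d).2 (surjective_asO_open p hp.out h0 d (hY.trans hd) U
    (NoetherianSpace.isCompact (U : Set Y)) h0U
    ((surjective_AS_iff p hp.out h0 d).1 (EtTraceLib.ASProper.surjective_AS p hp.out h0 k g d)))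
  have hUd : topologicalKrullDim ↥U.toScheme ≤ d :=
    ((topologicalKrullDim_subspace_le _ _).trans (hY.trans hd).le)
  have hUvan : Subsingleton (EtCoh.H U.toScheme (EtCoh.const U.toScheme (ZMod p)) (d + 1)) := by
    refine subsingleton_of_forall_eq 0 fun x => ?_
    obtain ⟨y, rfl⟩ := Ext.covariant_sequence_exact₁ _ (asSeq_shortExact p (T := U.toScheme)) x
      ((subsingleton_H_Ga (qcVanish_of_dim hUd) (d + 1) (by omega)).elim _ _) rfl
    obtain ⟨w, rfl⟩ := hsur y
    refine (Ext.comp_assoc_of_second_deg_zero _ (Ext.mk₀ _) (asSeq_shortExact p (T := U.toScheme)).extClass rfl).trans ?_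
    exact (congrArg (fun z => Ext.comp w z (rfl : d + 1 = d + 1)) (asSeq_shortExact p (T := U.toScheme)).comp_extClass).trans
      (Ext.comp_zero _ _ _ _ _)
  obtain ⟨c⟩ := nonempty_push_const_iso e (ZMod p)
  obtain ⟨ε⟩ := EtVanish.nonempty_H_push_equiv e (EtCoh.const T (ZMod p)) (d + 1)
  haveI := subsingleton_H_of_iso c (d + 1)
  exact ε.symm.toEquiv.subsingleton

/-- Extensions by zero of constants from an open subscheme. -/
theorem subsingleton_H_extZero_open_top {V T : Scheme.{u}} (j : V ⟶ T) [IsOpenImmersion j] [EtShriek.JCont j]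
    (h : HasCompl k T) (n : ℕ) (hn : topologicalKrullDim ↥T ≤ n) (q : ℕ) (hq : n < q) :
    Subsingleton (EtCoh.H T ((EtShriek.extZero j).obj (EtCoh.const V (ZMod p))) q) := by
  haveI := h.isNoetherian
  haveI : QuasiCompact j := inferInstance
  let T' := j.image
  let ι : T' ⟶ T := j.imageι
  let j' : V ⟶ T' := j.toImage
  haveI := EtJCont.jCont j'
  have hT' : HasCompl k T' := h.of_finite ι
  have hn' : topologicalKrullDim ↥T' ≤ n :=
    (IsInducing.topologicalKrullDim_le ι.isClosedEmbedding.isInducing).trans hn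
  obtain ⟨Y, g, jY, hg, hjY⟩ := id hT'
  haveI := hg
  haveI := hjY
  haveI : LocallyOfFiniteType (jY ≫ g) := inferInstanceAs (LocallyOfFiniteType (_ ≫ _))
  haveI := isNoetherian_of_proper g
  haveI := hT'.isNoetherian
  have h0 : (p : Γ(T', ⊤)) = 0 := by
    rw [← map_natCast (jY ≫ g).appTop.hom p,
      ← map_natCast (Scheme.ΓSpecIso (CommRingCat.of k)).inv.hom p, CharP.cast_eq_zero, map_zero, map_zero]
  suffices hvan : Subsingleton (EtCoh.H T' ((EtShriek.extZero j').obj (EtCoh.const V (ZMod p))) q) by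
    have hsq : IsPullback j' (𝟙 V) ι j := by
      refine (IsOpenImmersion.isPullback (𝟙 V) j' j ι (by simp [ι, j']) (TopologicalSpace.Opens.ext ?_)).flip
      ext y
      refine ⟨fun hy => ?_, fun hy => ?_⟩
      · obtain ⟨v, hv⟩ := hy
        refine ⟨v, ι.isClosedEmbedding.injective ?_⟩
        rw [← Scheme.Hom.comp_apply, j.toImage_imageι, hv]
      · obtain ⟨v, rfl⟩ := hy
        exact ⟨v, by rw [← Scheme.Hom.comp_apply, j.toImage_imageι]⟩
    obtain ⟨e⟩ := S0653.result ι j j' (𝟙 V) hsq (EtCoh.const V (ZMod p))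
    obtain ⟨c⟩ := nonempty_push_const_iso (𝟙 V) (ZMod p)
    obtain ⟨ε⟩ := EtVanish.nonempty_H_push_equiv ι ((EtShriek.extZero j').obj (EtCoh.const V (ZMod p))) q
    haveI : Subsingleton (EtCoh.H T ((EtCoh.push ι).obj ((EtShriek.extZero j').obj (EtCoh.const V (ZMod p)))) q) :=
      ε.toEquiv.subsingleton
    exact subsingleton_H_of_iso ((EtShriek.extZero j).mapIso c.symm ≪≫ e.symm) q
  let U := j'.opensRange
  haveI := EtJCont.jCont U.ι
  let Zc : Closeds T' := ⟨(U : Set T')ᶜ, U.isOpen.isClosed_compl⟩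
  let i := (Scheme.IdealSheafData.vanishingIdeal Zc).subschemeι
  have hU : (U : Set T') = (Set.range i.base)ᶜ := by
    rw [show Set.range i.base = (U : Set T')ᶜ from (Scheme.IdealSheafData.range_subschemeι _).trans
      (Scheme.IdealSheafData.coe_support_vanishingIdeal Zc), compl_compl]
  let F := EtCoh.const T' (ZMod p)
  let e : (EtShriek.restrAlong U.ι).obj F ≅ EtCoh.const U (ZMod p) :=
    (EtPtsLib.pullIsoRestr U.ι).symm.app F ≪≫ EtCore.pullConst U.ι (ZMod p)
  obtain ⟨w, hS⟩ := S0654.result i U hU F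
  have hUvan : ∀ x : EtCoh.H T' ((EtShriek.extZero U.ι).obj ((EtShriek.restrAlong U.ι).obj F)) q, x = 0 := by
    intro x
    obtain ⟨r, rfl⟩ : ∃ r, q = r + 1 := ⟨q - 1, by omega⟩
    obtain ⟨y, hy⟩ := Ext.covariant_sequence_exact₁ _ hS x
      ((subsingleton_H_const_top p hT' n hn' (r + 1) hq).elim _ _) rfl
    have hr : Subsingleton (EtCoh.H T' ((EtCoh.push i).obj ((EtCoh.pull i).obj F)) r) := by
      obtain ⟨ε⟩ := EtVanish.nonempty_H_push_equiv i ((EtCoh.pull i).obj F) r
      refine @Equiv.subsingleton _ _ ε.toEquiv ?_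
      rcases isEmpty_or_nonempty (Scheme.IdealSheafData.vanishingIdeal Zc).subscheme with hZ | hZ
      · exact EtTraceLib.ASProper.subsingleton_H_of_isEmpty _ r
      obtain ⟨m, hm, hdimZ⟩ := dim_closed_compl (jY ≫ g) i U j.toImage.denseRange
        (by rw [hU]; exact disjoint_compl_right) n hn'
      haveI := subsingleton_H_const_top p (hT'.of_finite i) m hdimZ r (by omega)
      exact subsingleton_H_of_iso (EtCore.pullConst i (ZMod p)) r
    rw [← hy, Subsingleton.elim (α := EtCoh.H T' ((EtCoh.push i).obj ((EtCoh.pull i).obj F)) r) y 0, Ext.zero_comp]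
  haveI : Subsingleton (EtCoh.H T' ((EtShriek.extZero U.ι).obj ((EtShriek.restrAlong U.ι).obj F)) q) :=
    subsingleton_of_forall_eq 0 hUvan
  haveI : Subsingleton (EtCoh.H T' ((EtShriek.extZero U.ι).obj (EtCoh.const U (ZMod p))) q) :=
    subsingleton_H_of_iso ((EtShriek.extZero U.ι).mapIso e.symm) q
  let eV : V ⟶ U.toScheme := j'.isoOpensRange.hom
  obtain ⟨c⟩ := nonempty_push_const_iso eV (ZMod p)
  obtain ⟨w⟩ := S0653.result (𝟙 T') U.ι j' eV
    (IsOpenImmersion.isPullback eV j' U.ι (𝟙 T') (by simp [eV, U]) (by simp [U])).flip (EtCoh.const V (ZMod p))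
  haveI := subsingleton_H_of_iso (w ≪≫ (EtShriek.extZero U.ι).mapIso c) q
  obtain ⟨ε⟩ := EtVanish.nonempty_H_push_equiv (𝟙 T') ((EtShriek.extZero j').obj (EtCoh.const V (ZMod p))) q
  exact ε.symm.toEquiv.subsingleton

/-- The bound by the dimension. -/
theorem cohDimLEAt_dim {X : Scheme.{u}} (h : HasCompl k X) (n : ℕ) (hn : topologicalKrullDim ↥X ≤ n) :
    Dix.CohDimLEAt X p n :=
  haveI := h.isNoetherian
  cohDimLEAt_of_constVanish p fun q hq _ _ π _ j _ _ =>
    subsingleton_H_extZero_open_top p j (h.of_finite π) n ((DimLiftLib.le_of_isIntegralHom π).trans hn) q hq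

/-- Quasi-compact subschemes of proper schemes have compactifications. -/
theorem HasCompl.of_immersion {X P : Scheme.{u}} (g : P ⟶ Spec (CommRingCat.of k)) [IsProper g] (i : X ⟶ P)
    [IsImmersion i] : HasCompl k X := by
  haveI := isNoetherian_of_proper g
  haveI : NoetherianSpace X := i.isEmbedding.isInducing.noetherianSpace
  haveI : QuasiCompact i := ⟨fun U _ _ => NoetherianSpace.isCompact _⟩
  exact ⟨i.image, i.imageι ≫ g, i.toImage, inferInstance, inferInstance⟩

end Groth.Agent.CdpLib
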