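import Groth.Agent.CdpLib.ResPush
import Groth.Agent.EtVanish.ArtinSchreier
import Groth.Agent.EtTraceLib.ASProper
import Groth.Agent.EtPtsLib.GermEq
import Groth.Agent.S0654
import Groth.Agent.S0110
import Groth.Agent.S0012

/-!
# Artin–Schreier vanishing under a bound on the coherent cohomological dimension
-/

set_option autoImplicit false
set_option backward.isDefEq.respectTransparency false
set_option backward.isDefEq.respectTransparency.types false
set_option linter.style.haveILetI false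
set_option maxHeartbeats 800000
set_option synthInstance.maxHeartbeats 400000

universe u

open CategoryTheory CategoryTheory.Limits AlgebraicGeometry Opposite CategoryTheory.Abelian

noncomputable section

namespace Groth.Agent.CdpLib

/-- Quasi-coherent cohomology vanishes above degree `d`. -/
def QCVanish (T : Scheme.{u}) (d : ℕ) : Prop :=
  ∀ M : T.Modules, Coh.IsQCoh M → ∀ q : ℕ, d < q → Subsingleton (Coh.HH T M q)

/-- The bound passes to schemes affine over the given one. -/
theorem QCVanish.of_affine {T X : Scheme.{u}} (π : T ⟶ X) [IsAffineHom π] {d : ℕ} (h : QCVanish X d) :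
    QCVanish T d := fun M hM q hq => by
  haveI := hM
  obtain ⟨e⟩ := S0012.result π M q
  haveI := h _ (QCohLib.isQCoh_pushforward M π) q hq
  exact e.toEquiv.subsingleton

theorem subsingleton_H_Ga {T : Scheme.{u}} {d : ℕ} (h : QCVanish T d) (q : ℕ) (hq : d < q) :
    Subsingleton (EtCoh.H T (EtCoh.Ga T) q) := by
  obtain ⟨e⟩ := S0110.result T q
  haveI := h (Coh.structureModule T) inferInstance q hq
  exact e.toEquiv.subsingleton

variable (p : ℕ) [hp : Fact p.Prime]

/-- The Artin–Schreier sequence. -/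
abbrev asSeq {T : Scheme.{u}} [CharP Γ(T, ⊤) p] : ShortComplex (EtCoh.Ab T) :=
  ShortComplex.mk (EtVanish.asConst (X := T) p)
    (W4c5etcohweilstudent.artinSchreierEndo T p hp.out (CharP.cast_eq_zero _ _))
    (EtVanish.asConst_comp p hp.out _)

theorem asSeq_shortExact {T : Scheme.{u}} [CharP Γ(T, ⊤) p] : (asSeq (T := T) p).ShortExact :=
  EtVanish.shortExact_AS p hp.out _

theorem charP_of_natCast {T : Scheme.{u}} [Nonempty T] (h0 : (p : Γ(T, ⊤)) = 0) : CharP Γ(T, ⊤) p :=
  EtTraceLib.ASProper.charP_global p hp.out h0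

theorem subsingleton_H_const {T : Scheme.{u}} (h0 : (p : Γ(T, ⊤)) = 0) {d : ℕ} (h : QCVanish T d) (q : ℕ)
    (hq : d + 1 < q) : Subsingleton (EtCoh.H T (EtCoh.const T (ZMod p)) q) := by
  rcases isEmpty_or_nonempty T with hT | hT
  · exact EtTraceLib.ASProper.subsingleton_H_of_isEmpty _ q
  haveI := charP_of_natCast p h0
  obtain ⟨r, rfl⟩ : ∃ r, q = r + 1 := ⟨q - 1, by omega⟩
  refine subsingleton_of_forall_eq 0 fun x => ?_
  obtain ⟨y, rfl⟩ := Ext.covariant_sequence_exact₁ _ (asSeq_shortExact p (T := T)) x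
    ((subsingleton_H_Ga h (r + 1) (by omega)).elim _ _) rfl
  rw [(subsingleton_H_Ga h r (by omega)).elim y 0, Ext.zero_comp]

variable {Z T : Scheme.{u}} (i : Z ⟶ T)

/-- Restriction of constants to a subscheme. -/
def resConst : EtCoh.const T (ZMod p) ⟶ (EtCoh.push i).obj (EtCoh.const Z (ZMod p)) :=
  (EtCoh.pullPushAdj i).unit.app _ ≫ (EtCoh.push i).map (EtCore.pullConst i (ZMod p)).hom

theorem resConst_top (c : ULift.{u + 1} (ZMod p)) :
    (resConst p i).hom.app (op (EtCoh.top T)) (EtPtsLib.cst _ (EtCoh.top T) c) =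
      (EtCoh.const Z (ZMod p)).obj.map (EtCore.bcTopIso i).hom.op (EtPtsLib.cst _ (EtCoh.top Z) c) := by
  let M := AddCommGrpCat.of (ULift.{u + 1} (ZMod p))
  let a1 := (((EtCore.constAdj T).comp (EtCoh.pullPushAdj i)).ofNatIsoRight (EtCore.pushGsecIso i))
  have h := Adjunction.homEquiv_leftAdjointUniq_hom_app a1 (EtCore.constAdj Z) M
  have hu : ∀ (W : Scheme.{u}), (EtCore.constAdj W).unit.app M = EtPtsLib.cst M (EtCoh.top W) := fun W => by
    simp only [EtCore.constAdj, constantSheafAdj, Adjunction.comp_unit_app, EtPtsLib.cst]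
    rfl
  have h1 : ((EtCore.constAdj T).comp (EtCoh.pullPushAdj i)).homEquiv _ _ ((EtCore.pullConstIso i).hom.app M) ≫
      (EtCore.pushGsecIso i).hom.app _ = EtPtsLib.cst M (EtCoh.top Z) := by
    refine Eq.trans ?_ (h.trans (hu Z))
    rw [Adjunction.homEquiv_unit, Adjunction.homEquiv_unit]
    exact (Category.assoc _ _ _).trans ((congrArg (_ ≫ ·)
      ((EtCore.pushGsecIso i).hom.naturality ((EtCore.pullConstIso i).hom.app M))).trans (Category.assoc _ _ _).symm)
  rw [Adjunction.homEquiv_unit, Adjunction.comp_unit_app, hu T] at h1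
  have h2 := ConcreteCategory.congr_hom h1 c
  refine Eq.trans ?_ (congrArg ((EtCoh.const Z (ZMod p)).obj.map (EtCore.bcTopIso i).hom.op) h2)
  show _ = (EtCoh.const Z (ZMod p)).obj.map (EtCore.bcTopIso i).hom.op
    ((EtCoh.const Z (ZMod p)).obj.map (EtCore.bcTopIso i).inv.op
      ((resConst p i).hom.app (op (EtCoh.top T)) (EtPtsLib.cst _ (EtCoh.top T) c)))
  exact (ConcreteCategory.congr_hom
    ((EtCoh.const Z (ZMod p)).obj.mapIso (EtCore.bcTopIso i).op).inv_hom_id _).symm

variable [CharP Γ(T, ⊤) p] [CharP Γ(Z, ⊤) p]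

theorem asConst_cst {S : Scheme.{u}} [CharP Γ(S, ⊤) p] (U : S.Etale) (n : ℕ) :
    ((EtVanish.asConst (X := S) p).hom.app (op U)
      (EtPtsLib.cst _ U (ULift.up.{u + 1} (n : ZMod p))) : ULift.{u + 1} Γ(U.left, ⊤)).down = (n : Γ(U.left, ⊤)) :=
  (congrArg ULift.down (ConcreteCategory.congr_hom (NatTrans.congr_app (EtVanish.toSheafify_asConst (X := S) p) (op U))
    (ULift.up.{u + 1} (n : ZMod p)))).trans (EtVanish.asConstPre_down p U n)

theorem asConst_GaPush :
    EtVanish.asConst (X := T) p ≫ EtLim.GaPush i = resConst p i ≫ (EtCoh.push i).map (EtVanish.asConst (X := Z) p) := by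
  apply ((EtCore.constAdj T).homEquiv _ _).injective
  rw [Adjunction.homEquiv_unit, Adjunction.homEquiv_unit]
  refine AddCommGrpCat.hom_ext (AddMonoidHom.ext fun c => ?_)
  obtain ⟨c⟩ := c
  rw [show c = ((c.val : ℕ) : ZMod p) from (ZMod.natCast_zmod_val c).symm]
  generalize c.val = n
  have hu : (EtCore.constAdj T).unit.app (AddCommGrpCat.of (ULift.{u + 1} (ZMod p))) =
      EtPtsLib.cst _ (EtCoh.top T) := by
    simp only [EtCore.constAdj, constantSheafAdj, Adjunction.comp_unit_app, EtPtsLib.cst]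
    rfl
  rw [hu]
  apply ULift.ext
  let U := (EtCoh.bc i).obj (EtCoh.top T)
  trans (n : Γ(U.left, ⊤))
  · show (pullback.fst (EtCoh.top T).hom i).appTop
      ((EtVanish.asConst (X := T) p).hom.app (op (EtCoh.top T))
        (EtPtsLib.cst _ (EtCoh.top T) (ULift.up.{u + 1} (n : ZMod p))) : ULift.{u + 1} Γ((EtCoh.top T).left, ⊤)).down = _
    rw [asConst_cst, map_natCast]
  · refine Eq.symm ?_
    show ((EtVanish.asConst (X := Z) p).hom.app (op U)
      ((resConst p i).hom.app (op (EtCoh.top T)) (EtPtsLib.cst _ (EtCoh.top T) (ULift.up.{u + 1} (n : ZMod p)))) :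
        ULift.{u + 1} Γ(U.left, ⊤)).down = _
    rw [resConst_top]
    rw [show EtPtsLib.cst _ (EtCoh.top Z) = EtPtsLib.cst (AddCommGrpCat.of (ULift.{u + 1} (ZMod p))) (EtCoh.top Z) from rfl]
    refine Eq.trans (congrArg (fun z => (((EtVanish.asConst (X := Z) p).hom.app (op U)) z :
      ULift.{u + 1} Γ(U.left, ⊤)).down) (ConcreteCategory.congr_hom (EtPtsLib.cst_map
        (AddCommGrpCat.of (ULift.{u + 1} (ZMod p))) (EtCore.bcTopIso i).hom) (ULift.up.{u + 1} (n : ZMod p)))) ?_
    exact asConst_cst p U n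

theorem GaPush_AS (h0 : (p : Γ(T, ⊤)) = 0) (h0' : (p : Γ(Z, ⊤)) = 0) :
    EtLim.GaPush i ≫ (EtCoh.push i).map (W4c5etcohweilstudent.artinSchreierEndo Z p hp.out h0') =
      W4c5etcohweilstudent.artinSchreierEndo T p hp.out h0 ≫ EtLim.GaPush i := by
  apply (sheafToPresheaf _ _).map_injective
  ext V ⟨x⟩
  apply ULift.ext
  let r : Γ(V.unop.left, ⊤) →+* Γ(((EtCoh.bc i).obj V.unop).left, ⊤) := (pullback.fst (V.unop).hom i).appTop.hom
  let y : (Γ(V.unop.left, ⊤) : Type u) := x
  show (r y) ^ p - r y = r (y ^ p - y)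
  rw [map_sub, map_pow]

/-- The map of Artin–Schreier sequences. -/
def asMap : asSeq (T := T) p ⟶ (asSeq (T := Z) p).map (EtCoh.push i) where
  τ₁ := resConst p i
  τ₂ := EtLim.GaPush i
  τ₃ := EtLim.GaPush i
  comm₁₂ := (asConst_GaPush p i).symm
  comm₂₃ := GaPush_AS p i (CharP.cast_eq_zero _ _) (CharP.cast_eq_zero _ _)

omit [CharP Γ(T, ⊤) p] [CharP Γ(Z, ⊤) p] in
/-- Restriction to a closed subscheme is surjective on the top degree. -/
theorem exists_resConst [IsClosedImmersion i] [Nonempty Z] (h0 : (p : Γ(T, ⊤)) = 0) {d : ℕ} (h : QCVanish T d)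
    (z : EtCoh.H T ((EtCoh.push i).obj (EtCoh.const Z (ZMod p))) (d + 1)) :
    ∃ x : EtCoh.H T (EtCoh.const T (ZMod p)) (d + 1), x.comp (Ext.mk₀ (resConst p i)) (add_zero _) = z := by
  haveI : Nonempty T := ⟨i (Classical.arbitrary Z)⟩
  haveI := charP_of_natCast p h0
  haveI := charP_of_natCast (T := Z) p (by rw [← map_natCast i.appTop.hom p, h0, map_zero])
  haveI : EtZar.ZarCont T := EtTraceLib.zarCont T
  haveI : PreservesFiniteColimits (EtCoh.push i) := by
    haveI : (EtCoh.push i).PreservesEpimorphisms := S6634.result i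
    haveI : (EtCoh.push i).IsRightAdjoint := (EtCoh.pullPushAdj i).isRightAdjoint
    haveI : (EtCoh.push i).PreservesHomology := Functor.preservesHomology_of_preservesEpis_and_kernels _
    exact Functor.preservesFiniteColimits_of_preservesHomology _
  haveI : PreservesFiniteLimits (EtCoh.push i) :=
    haveI := (EtCoh.pullPushAdj i).rightAdjoint_preservesLimits.{0, 0}
    PreservesLimitsOfSize.preservesFiniteLimits _
  have hZ := (asSeq_shortExact p (T := Z)).map_of_exact (EtCoh.push i)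
  obtain ⟨e⟩ := EtVanish.nonempty_H_push_equiv i (EtCoh.Ga Z) (d + 1)
  haveI := subsingleton_H_Ga (QCVanish.of_affine i h) (d + 1) (by omega)
  obtain ⟨w, hw⟩ := Ext.covariant_sequence_exact₁ _ hZ z (e.toEquiv.subsingleton.elim _ _) rfl
  obtain ⟨v, hv⟩ := exists_res i d (fun M hM => h M hM (d + 1) (by omega)) w
  refine ⟨v.comp (asSeq_shortExact p (T := T)).extClass rfl, ?_⟩
  rw [← hw, ← hv, Ext.comp_assoc_of_third_deg_zero, Ext.comp_assoc_of_second_deg_zero]
  have hn := ShortComplex.ShortExact.extClass_naturality (asSeq_shortExact p) hZ (asMap p i)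
  simp only [asMap] at hn
  exact congrArg (fun c => Ext.comp v c rfl) hn

omit [CharP Γ(T, ⊤) p] [CharP Γ(Z, ⊤) p] in
/-- Extension by zero of constants from an open subscheme has no cohomology above degree `d + 1`. -/
theorem subsingleton_H_extZero [IsClosedImmersion i] (U : T.Opens) (hU : (U : Set T) = (Set.range i.base)ᶜ)
    [AlgebraicGeometry.Etale U.ι] [EtShriek.JCont U.ι] (h0 : (p : Γ(T, ⊤)) = 0) {d : ℕ} (h : QCVanish T d)
    (q : ℕ) (hq : d + 1 < q) :
    Subsingleton (EtCoh.H T ((EtShriek.extZero U.ι).obj (EtCoh.const U (ZMod p))) q) := by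
  let F := EtCoh.const T (ZMod p)
  let e : (EtShriek.restrAlong U.ι).obj F ≅ EtCoh.const U (ZMod p) :=
    (EtPtsLib.pullIsoRestr U.ι).symm.app F ≪≫ EtCore.pullConst U.ι (ZMod p)
  obtain ⟨w, hS⟩ := S0654.result i U hU F
  suffices hX : ∀ x : EtCoh.H T ((EtShriek.extZero U.ι).obj ((EtShriek.restrAlong U.ι).obj F)) q, x = 0 by
    haveI : Subsingleton (EtCoh.H T ((EtShriek.extZero U.ι).obj ((EtShriek.restrAlong U.ι).obj F)) q) :=
      subsingleton_of_forall_eq 0 hX
    exact (@Equiv.subsingleton _ _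
      ((Sheaf.functorH _ q).mapIso ((EtShriek.extZero U.ι).mapIso e)).addCommGroupIsoToAddEquiv.symm.toEquiv ‹_›)
  intro x
  obtain ⟨r, rfl⟩ : ∃ r, q = r + 1 := ⟨q - 1, by omega⟩
  obtain ⟨y, hy⟩ := Ext.covariant_sequence_exact₁ _ hS x ((subsingleton_H_const p h0 h (r + 1) hq).elim _ _) rfl
  have hpush : ∀ s : EtCoh.H T ((EtCoh.push i).obj ((EtCoh.pull i).obj F)) r,
      s.comp hS.extClass rfl = 0 := by
    intro s
    let ψ := (EtCoh.push i).mapIso (EtCore.pullConst i (ZMod p))
    rcases isEmpty_or_nonempty Z with hZ | hZ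
    · obtain ⟨e'⟩ := EtVanish.nonempty_H_push_equiv i ((EtCoh.pull i).obj F) r
      haveI := EtTraceLib.ASProper.subsingleton_H_of_isEmpty ((EtCoh.pull i).obj F) r
      rw [e'.toEquiv.subsingleton.elim s 0, Ext.zero_comp]
    by_cases hr : d + 1 < r
    · obtain ⟨e'⟩ := EtVanish.nonempty_H_push_equiv i ((EtCoh.pull i).obj F) r
      haveI := subsingleton_H_const p (T := Z) (by rw [← map_natCast i.appTop.hom p, h0, map_zero])
        (QCVanish.of_affine i h) r hr
      haveI : Subsingleton (EtCoh.H Z ((EtCoh.pull i).obj F) r) :=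
        @Equiv.subsingleton _ _
          ((Sheaf.functorH _ r).mapIso (EtCore.pullConst i (ZMod p))).addCommGroupIsoToAddEquiv.toEquiv ‹_›
      rw [e'.toEquiv.subsingleton.elim s 0, Ext.zero_comp]
    obtain rfl : r = d + 1 := by omega
    obtain ⟨x₀, hx₀⟩ := exists_resConst p i h0 h (s.comp (Ext.mk₀ ψ.hom) (add_zero _))
    have hs : s = x₀.comp (Ext.mk₀ ((EtCoh.pullPushAdj i).unit.app F)) (add_zero _) := by
      have h' := congrArg (fun z => Ext.comp z (Ext.mk₀ ψ.inv) (add_zero (d + 1))) hx₀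
      simp only [Ext.comp_assoc_of_second_deg_zero, Ext.mk₀_comp_mk₀, Iso.hom_inv_id, Ext.comp_mk₀_id] at h'
      rw [← h']
      refine congrArg (fun m => Ext.comp x₀ (Ext.mk₀ m) (add_zero (d + 1))) ?_
      exact ((Category.assoc _ _ _).trans (congrArg (_ ≫ ·) ψ.hom_inv_id)).trans (Category.comp_id _)
    rw [hs, Ext.comp_assoc_of_second_deg_zero]
    exact (congrArg (fun c => Ext.comp x₀ c rfl) hS.comp_extClass).trans (Ext.comp_zero _ _ _ _ _)
  rw [← hy]
  exact hpush y

end Groth.Agent.CdpLib
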