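import Groth.Agent.EtTraceLib.GaCmp
import Groth.Agent.S17614
import Groth.Agent.S0109
import Groth.Agent.EtVanish.Henselian
import Groth.Agent.ShriekLib.ExtZeroPull
import Groth.Agent.QCohLib.Exact
import Groth.Agent.QCohLib.Push
import Groth.Agent.FibreVanishQC.GlobGen
import Groth.Prelude.Def_EtLim

/-!
# Restricting functions to a closed subscheme is surjective on the top coherent degree
-/

set_option autoImplicit false
set_option backward.isDefEq.respectTransparency false
set_option backward.isDefEq.respectTransparency.types false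
set_option linter.style.haveILetI false
set_option maxHeartbeats 800000
set_option synthInstance.maxHeartbeats 400000

universe u

open CategoryTheory CategoryTheory.Limits AlgebraicGeometry Opposite TopologicalSpace CategoryTheory.Abelian

noncomputable section

namespace Groth.Agent.CdpLib

open EtVanish EtTraceLib.GaCmp

variable {Z T : Scheme.{u}} (i : Z ⟶ T) [IsClosedImmersion i]

/-- The additive group restricts to the additive group. -/
def restrGaIso {W : Scheme.{u}} (j : W ⟶ T) [AlgebraicGeometry.Etale j] [EtShriek.JCont j] :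
    (EtShriek.restrAlong j).obj (EtCoh.Ga T) ≅ EtCoh.Ga W :=
  (fullyFaithfulSheafToPresheaf _ _).preimageIso (NatIso.ofComponents (fun V => Iso.refl _) fun f => by
    ext x; rfl)

/-- The higher cohomology over affine étale schemes of a direct image of the additive group vanishes. -/
theorem subsingleton_H_pull_push_Ga {W : Scheme.{u}} (j : W ⟶ T) [AlgebraicGeometry.Etale j] [IsAffine W] (n : ℕ)
    (hn : 1 ≤ n) : Subsingleton (EtCoh.H W ((EtCoh.pull j).obj ((EtCoh.push i).obj (EtCoh.Ga Z))) n) := by
  haveI := EtJCont.jCont j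
  haveI := EtJCont.jCont (pullback.fst i j)
  haveI : IsAffine (pullback i j) := isAffine_of_isAffineHom (pullback.snd i j)
  let e : (EtCoh.pull j).obj ((EtCoh.push i).obj (EtCoh.Ga Z)) ≅
      (EtCoh.push (pullback.snd i j)).obj (EtCoh.Ga (pullback i j)) :=
    (EtPtsLib.pullIsoRestr j).app _ ≪≫
      (ShriekLib.restrPushIso i j (pullback.fst i j) (pullback.snd i j)
        (IsPullback.of_hasPullback i j)).app (EtCoh.Ga Z) ≪≫
      (EtCoh.push _).mapIso (restrGaIso (pullback.fst i j))
  obtain ⟨ε⟩ := nonempty_H_push_equiv (pullback.snd i j) (EtCoh.Ga (pullback i j)) n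
  haveI := S0109.result (pullback i j) n hn
  exact (((Sheaf.functorH _ n).mapIso e).addCommGroupIsoToAddEquiv.trans ε).toEquiv.subsingleton

/-- Direct images of the additive group along closed immersions are acyclic on affine étale schemes. -/
theorem affAcyclic_push_Ga : S17614.AffAcyclic ((EtCoh.push i).obj (EtCoh.Ga Z)) := fun U hU n hn =>
  @subsingleton_H_pull_push_Ga Z T i _ U.left U.hom U.prop hU n hn

variable [EtZar.ZarCont T]

/-- Sheaves acyclic on affine étale schemes are acyclic for the restriction to the Zariski site. -/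
theorem isAcyclicFor_of_affAcyclic (G : EtCoh.Ab T) (hG : S17614.AffAcyclic G) :
    SpSeqLib.IsAcyclicFor (EtZar.resZar T) G := by
  intro k
  refine S6625.isZero_rightDerived (EtZar.resZar T) (fun F => S17614.AffAcyclic F) (fun F =>
    ⟨Injective.under F, Injective.ι F, fun U _ n hn => ?_, inferInstance⟩) (fun C hC h₁ h₂ => ?_) hG k
  · haveI : AlgebraicGeometry.Etale U.hom := U.prop
    haveI := S17614.injective_pull U.hom (Injective.under F)
    obtain ⟨m, rfl⟩ := Nat.exists_eq_succ_of_ne_zero (Nat.one_le_iff_ne_zero.1 hn)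
    exact subsingleton_of_forall_eq 0 fun x => Ext.eq_zero_of_injective x
  · refine ⟨fun U hU n hn => ?_, S17614.shortExact_resZar hC h₁⟩
    have hP := S17614.shortExact_pull U.hom hC
    refine subsingleton_of_forall_eq 0 fun x => ?_
    obtain ⟨y, rfl⟩ := Ext.covariant_sequence_exact₃ _ hP x rfl
      ((h₁ U hU (n + 1) (by omega)).elim _ _)
    rw [(h₂ U hU n hn).elim y 0, Ext.zero_comp]

/-- The functions on the inverse image of an open of `T`. -/
def secIso (V : T.Opens) :
    Γ(((EtCoh.bc i).obj ((EtZar.zarToEt T).obj V)).left, ⊤) ≅ Γ(Z, i ⁻¹ᵁ V) :=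
  asIso ((isPullback_morphismRestrict i V).isoPullback.hom.appTop) ≪≫ (Scheme.Opens.topIso (i ⁻¹ᵁ V))

theorem isoPullback_map {V V' : T.Opens} (h : V' ≤ V) :
    (isPullback_morphismRestrict i V').isoPullback.hom ≫
        ((EtCoh.bc i).map ((EtZar.zarToEt T).map (homOfLE h))).left =
      Z.homOfLE (i.preimage_mono h) ≫ (isPullback_morphismRestrict i V).isoPullback.hom := by
  haveI : Mono ((EtZar.zarToEt T).obj V).hom := inferInstanceAs (Mono V.ι)
  have e : ∀ W : T.Opens, (isPullback_morphismRestrict i W).isoPullback.hom ≫ pullback.snd W.ι i = (i ⁻¹ᵁ W).ι :=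
    fun W => IsPullback.isoPullback_hom_snd _
  have e' : (isPullback_morphismRestrict i V').isoPullback.hom ≫ pullback.snd V'.ι i =
      Z.homOfLE (i.preimage_mono h) ≫ (isPullback_morphismRestrict i V).isoPullback.hom ≫ pullback.snd V.ι i := by
    rw [e, e, Scheme.homOfLE_ι]
  apply pullback.hom_ext
  · rw [← cancel_mono ((EtZar.zarToEt T).obj V).hom]
    simp only [Category.assoc]
    rw [pullback.condition]
    simp [EtCoh.bc, EtZar.zarToEt]
    exact (Category.assoc _ _ _).symm.trans ((congrArg (· ≫ i) e').trans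
      ((Category.assoc _ _ _).trans (congrArg (_ ≫ ·) (Category.assoc _ _ _))))
  · simp [EtCoh.bc, EtZar.zarToEt]
    exact e'

theorem secIso_naturality {V V' : T.Opens} (h : V' ≤ V) :
    ((EtCoh.bc i).map ((EtZar.zarToEt T).map (homOfLE h))).left.appTop ≫ (secIso i V').hom =
      (secIso i V).hom ≫ Z.presheaf.map (homOfLE (i.preimage_mono h)).op := by
  simp only [secIso, Iso.trans_hom, asIso_hom]
  rw [← Category.assoc, ← Scheme.Hom.comp_appTop, isoPullback_map i h, Scheme.Hom.comp_appTop, Category.assoc,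
    Category.assoc]
  congr 1
  rw [Scheme.Hom.appTop, Scheme.homOfLE_app, Scheme.Opens.topIso_hom, Scheme.Opens.topIso_hom,
    ← Functor.map_comp, ← Functor.map_comp]
  rfl

theorem secIso_fst (V : T.Opens) :
    (pullback.fst V.ι i).appTop ≫ (secIso i V).hom = (Scheme.Opens.topIso V).hom ≫ i.app V := by
  simp only [secIso, Iso.trans_hom, asIso_hom]
  rw [← Category.assoc, ← Scheme.Hom.comp_appTop, IsPullback.isoPullback_hom_fst]
  simp [morphismRestrict_appTop]
  rw [Scheme.Hom.appLE]
  exact congrArg (i.app _ ≫ ·) (congrArg Z.presheaf.map (Subsingleton.elim _ _))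

/-- The restriction of the additive group of a closed subscheme is its structure sheaf. -/
def resPushGaIso : (EtZar.resZar T).obj ((EtCoh.push i).obj (EtCoh.Ga Z)) ≅
    (liftSh (X := T)).obj (Coh.toAb ((Coh.push i).obj (Coh.structureModule Z))) :=
  (fullyFaithfulSheafToPresheaf _ _).preimageIso
    (NatIso.ofComponents
      (fun V => AddCommGrpCat.uliftFunctor.{u + 1, u}.mapIso
        ((forget₂ CommRingCat RingCat ⋙ forget₂ RingCat AddCommGrpCat).mapIso (secIso i V.unop)))
      (fun {V V'} f => by
        ext x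
        apply ULift.ext
        exact ConcreteCategory.congr_hom (secIso_naturality i f.unop.le) x.down))

/-- The restriction of functions to a closed subscheme. -/
def resO : Coh.structureModule T ⟶ (Coh.push i).obj (Coh.structureModule Z) :=
  SheafOfModules.unitToPushforwardObjUnit i.toRingCatSheafHom

theorem resZar_GaPush :
    (resGaIso T).inv ≫ (EtZar.resZar T).map (EtLim.GaPush i) =
      (liftSh (X := T)).map ((SheafOfModules.toSheaf T.ringCatSheaf).map (resO i)) ≫ (resPushGaIso i).inv := by
  rw [Iso.inv_comp_eq, ← Category.assoc, Iso.eq_comp_inv]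
  apply (sheafToPresheaf _ _).map_injective
  ext V ⟨x⟩
  apply ULift.ext
  exact ConcreteCategory.congr_hom (secIso_fst i V.unop) x

instance epi_resO : Epi (resO i) :=
  FibreVanishQC.epi_of_surjective_app (resO i) fun W hW => i.app_surjective W hW

/-- Surjectivity on degree `d` when the ideal has no cohomology in degree `d + 1`. -/
theorem exists_res (d : ℕ)
    (hvan : ∀ M : T.Modules, Coh.IsQCoh M → Subsingleton (Coh.HH T M (d + 1)))
    (x : EtCoh.H T ((EtCoh.push i).obj (EtCoh.Ga Z)) d) :
    ∃ y : EtCoh.H T (EtCoh.Ga T) d, y.comp (Ext.mk₀ (EtLim.GaPush i)) (add_zero d) = x := by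
  haveI := S17614.representablyFlat_zarToEt (S := T)
  haveI : PreservesFiniteLimits ((EtZar.zarToEt T).op.lan : _ ⥤ (T.Etale)ᵒᵖ ⥤ AddCommGrpCat.{u + 1}) :=
    AdeqShLib.preservesFiniteLimits_lan_ab _
  haveI : PreservesFiniteLimits (zarPull T) := inferInstance
  obtain ⟨hl, hr⟩ := preservesFinite_liftSh (T := T)
  let G := (EtCoh.push i).obj (EtCoh.Ga Z)
  obtain ⟨z, hz⟩ := ((bij_pre (Y := G) (zarConst T).symm d).comp
    (ExtAdj.transpose_bijective (zarAdj T) (cZ' T) G
      (isAcyclicFor_of_affAcyclic G (affAcyclic_push_Ga i)) d)).2 x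
  obtain ⟨w, hw⟩ := ((bij_post (X := cZ' T) (resPushGaIso i).symm d).comp
    (liftMap_bijective d (Coh.toAb ((Coh.push i).obj (Coh.structureModule Z))))).2 z
  haveI : Coh.IsQCoh ((Coh.push i).obj (Coh.structureModule Z)) := QCohLib.isQCoh_pushforward _ i
  let C : ShortComplex T.Modules := ShortComplex.mk (kernel.ι (resO i)) (resO i) (kernel.condition _)
  have hC : C.ShortExact := { exact := ShortComplex.exact_of_f_is_kernel C (kernelIsKernel _) }
  haveI hK := hvan (kernel (resO i)) (QCohLib.isQCoh_image (resO i) inferInstance inferInstance).1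
  obtain ⟨v, hv⟩ := Ext.covariant_sequence_exact₃ (cZ T) (QCohLib.toAb_shortExact hC) w rfl
    (hK.elim _ _)
  let Ψ : Coh.HH T (Coh.structureModule T) d → EtZar.H ((EtZar.resZar T).obj (EtCoh.Ga T)) d := fun y =>
    (liftMap (Coh.toAb (Coh.structureModule T)) d y).comp (Ext.mk₀ (resGaIso T).inv) (add_zero d)
  refine ⟨(Ext.mk₀ (zarConst T).inv).comp
    (ExtAdj.transpose (zarAdj T) (cZ' T) (EtCoh.Ga T) d (Ψ v)) (zero_add d), ?_⟩
  rw [← hz, ← hw, ← hv]
  simp only [Function.comp_apply, Iso.symm_hom]
  rw [Ext.comp_assoc_of_third_deg_zero, ← ExtAdj.transpose_mk₀]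
  refine congrArg (fun r => (Ext.mk₀ (zarConst T).inv).comp (ExtAdj.transpose (zarAdj T) (cZ' T) G d r) (zero_add d)) ?_
  show Ext.comp (Ψ v) _ _ = (liftMap _ d (Ext.comp v (Ext.mk₀ ((SheafOfModules.toSheaf T.ringCatSheaf).map (resO i)))
    (add_zero d))).comp _ _
  rw [liftMap_comp, Ext.comp_assoc_of_second_deg_zero, Ext.comp_assoc_of_second_deg_zero, Ext.mk₀_comp_mk₀,
    Ext.mk₀_comp_mk₀, resZar_GaPush]
  rfl

end Groth.Agent.CdpLib
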