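import Groth.Agent.EtTraceLib.ASProper
import Groth.Agent.OpenRestrH.Scheme
import Groth.Agent.CohBase.Basic
import Groth.Agent.S0470

/-!
# Artin–Schreier on the structure sheaf, in the top degree
-/

set_option autoImplicit false
set_option backward.isDefEq.respectTransparency false
set_option backward.isDefEq.respectTransparency.types false
set_option linter.style.haveILetI false
set_option maxHeartbeats 800000
set_option synthInstance.maxHeartbeats 400000

universe u

open CategoryTheory CategoryTheory.Limits AlgebraicGeometry Opposite TopologicalSpace CategoryTheory.Abelian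

noncomputable section

namespace Groth.Agent.CdpLib

open EtVanish EtTraceLib.GaCmp

variable {X : Scheme.{u}} (p : ℕ) (hp : p.Prime) (h0 : (p : Γ(X, ⊤)) = 0)

include h0 in
theorem natCast_eq_zero_opens (W : X.Opens) : (p : Γ(X, W)) = 0 := by
  rw [← map_natCast (X.presheaf.map (homOfLE (le_top : W ≤ ⊤)).op).hom p, h0, map_zero]

/-- The endomorphism `x ↦ x ^ p - x` of the structure sheaf. -/
def asO : Coh.toAb (Coh.structureModule X) ⟶ Coh.toAb (Coh.structureModule X) :=
  ⟨{ app := fun W => AddCommGrpCat.ofHom (X := (Γ(X, W.unop) : Type u)) (Y := (Γ(X, W.unop) : Type u))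
        (W4c5etcohweilstudent.asHom Γ(X, W.unop) p hp (natCast_eq_zero_opens p h0 W.unop))
     naturality := by
       intro W W' g
       ext x
       exact (W4c5etcohweilstudent.ringHom_comp_asHom (X.presheaf.map g).hom p hp
         (natCast_eq_zero_opens p h0 W.unop) (natCast_eq_zero_opens p h0 W'.unop) x).symm }⟩

theorem resGaIso_AS [EtZar.ZarCont X] :
    (resGaIso X).inv ≫ (EtZar.resZar X).map (W4c5etcohweilstudent.artinSchreierEndo X p hp h0) =
      (liftSh (X := X)).map (asO p hp h0) ≫ (resGaIso X).inv := by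
  rw [Iso.inv_comp_eq, ← Category.assoc, Iso.eq_comp_inv]
  apply (sheafToPresheaf _ _).map_injective
  ext W ⟨x⟩
  apply ULift.ext
  let V : X.Opens := W.unop
  let y : (Γ((V : Scheme.{u}), ⊤) : Type u) := x
  show (Scheme.Opens.topIso V).hom (y ^ p - y) =
    (Scheme.Opens.topIso V).hom y ^ p - (Scheme.Opens.topIso V).hom y
  rw [map_sub, map_pow]

/-- Surjectivity on the étale side is surjectivity on the Zariski side. -/
theorem surjective_AS_iff [EtZar.ZarCont X] (q : ℕ) :
    (∀ x : EtCoh.H X (EtCoh.Ga X) q, ∃ w : EtCoh.H X (EtCoh.Ga X) q,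
        w.comp (Ext.mk₀ (W4c5etcohweilstudent.artinSchreierEndo X p hp h0)) (add_zero q) = x) ↔
      Function.Surjective (Sheaf.H.map (asO p hp h0) q) := by
  haveI := S17614.representablyFlat_zarToEt (S := X)
  haveI : PreservesFiniteLimits ((EtZar.zarToEt X).op.lan : _ ⥤ (X.Etale)ᵒᵖ ⥤ AddCommGrpCat.{u + 1}) :=
    AdeqShLib.preservesFiniteLimits_lan_ab _
  haveI : PreservesFiniteLimits (zarPull X) := inferInstance
  obtain ⟨hl, hr⟩ := preservesFinite_liftSh (T := X)
  let O := Coh.toAb (Coh.structureModule X)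
  let T : EtZar.H ((EtZar.resZar X).obj (EtCoh.Ga X)) q → EtCoh.H X (EtCoh.Ga X) q := fun z =>
    (Ext.mk₀ (zarConst X).inv).comp (ExtAdj.transpose (zarAdj X) (cZ' X) (EtCoh.Ga X) q z) (zero_add q)
  have hT : Function.Bijective T :=
    (bij_pre (Y := EtCoh.Ga X) (zarConst X).symm q).comp
      (ExtAdj.transpose_bijective (zarAdj X) (cZ' X) (EtCoh.Ga X) (isAcyclicFor_Ga X) q)
  let Ψ : Coh.HH X (Coh.structureModule X) q → EtCoh.H X (EtCoh.Ga X) q := fun y =>
    T ((liftMap O q y).comp (Ext.mk₀ (resGaIso X).inv) (add_zero q))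
  have hΨ : Function.Bijective Ψ :=
    hT.comp ((bij_post (X := cZ' X) (resGaIso X).symm q).comp (liftMap_bijective q O))
  have hnat : ∀ y, Ψ (Sheaf.H.map (asO p hp h0) q y) =
      (Ψ y).comp (Ext.mk₀ (W4c5etcohweilstudent.artinSchreierEndo X p hp h0)) (add_zero q) := by
    intro y
    rw [Sheaf.H.map_apply]
    simp only [Ψ, T, liftMap_comp, Ext.comp_assoc_of_second_deg_zero, Ext.mk₀_comp_mk₀]
    rw [← resGaIso_AS p hp h0, ← Ext.mk₀_comp_mk₀ (resGaIso X).inv, ← Ext.comp_assoc_of_second_deg_zero,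
      ExtAdj.transpose_mk₀, Ext.comp_assoc_of_third_deg_zero]
  refine ⟨fun h y => ?_, fun h x => ?_⟩
  · obtain ⟨w, hw⟩ := h (Ψ y)
    obtain ⟨z, rfl⟩ := hΨ.2 w
    exact ⟨z, hΨ.1 ((hnat z).trans hw)⟩
  · obtain ⟨y, rfl⟩ := hΨ.2 x
    obtain ⟨z, rfl⟩ := h y
    exact ⟨Ψ z, (hnat z).symm⟩

/-- The restriction of the structure sheaf to an open subscheme. -/
def restrOIso (U : X.Opens) :
    (CohTop.restrFunctor (X := X.toTopCat) U).obj (Coh.toAb (Coh.structureModule X)) ≅
      Coh.toAb (Coh.structureModule U.toScheme) :=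
  (fullyFaithfulSheafToPresheaf _ _).preimageIso
    (NatIso.ofComponents (fun W => Iso.refl _) fun f => by ext x; rfl)

theorem restrOIso_AS (U : X.Opens) (hU : (p : Γ(U.toScheme, ⊤)) = 0) :
    (CohTop.restrFunctor (X := X.toTopCat) U).map (asO p hp h0) ≫ (restrOIso U).hom =
      (restrOIso U).hom ≫ asO p hp hU := by
  apply (sheafToPresheaf _ _).map_injective
  ext W x
  rfl

/-- Artin–Schreier is surjective in the top degree on open subschemes, if it is so globally. -/
theorem surjective_asO_open [CompactSpace X] [QuasiSeparatedSpace X] (d : ℕ) (hd : topologicalKrullDim X = d)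
    (U : X.Opens) (hUc : IsCompact (U : Set X)) (hU : (p : Γ(U.toScheme, ⊤)) = 0)
    (h : Function.Surjective (Sheaf.H.map (asO p hp h0) d)) :
    Function.Surjective (Sheaf.H.map (asO p hp hU) d) := by
  let T := X.toTopCat
  haveI : SpectralSpace ↑T := { (inferInstance : CompactSpace ↥X), (inferInstance : QuasiSober ↥X), (inferInstance : QuasiSeparatedSpace ↥X), (inferInstance : PrespectralSpace ↥X), (inferInstance : T0Space ↥X) with }
  haveI : PreservesFiniteLimits (CohTop.restrFunctor (X := T) U) :=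
    haveI : PreservesLimitsOfSize.{0, 0} (CohTop.restrFunctor (X := T) U) :=
      (LocZLib.extendOpenAdj (g := CohCx.incl (X := T) U) U.isOpenEmbedding).rightAdjoint_preservesLimits
    inferInstance
  haveI : PreservesFiniteColimits (CohTop.restrFunctor (X := T) U) :=
    haveI : PreservesColimitsOfSize.{0, 0} (CohTop.restrFunctor (X := T) U) :=
      (LocZLib.restrPushAdj (X := T) U).leftAdjoint_preservesColimits
    inferInstance
  let F : CohTop.Ab T := Coh.toAb (Coh.structureModule X)
  let R := CohTop.restrFunctor (X := T) U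
  let A : F ⟶ F := asO p hp h0
  haveI : R.Additive := Functor.additive_of_preserves_binary_products (CohTop.restrFunctor (X := T) U)
  haveI : PreservesFiniteLimits R := ‹_›
  haveI : PreservesFiniteColimits R := ‹_›
  let η := (CohBase.secEquiv (⊤ : Opens (TopCat.of U)) (R.obj (CohBase.freeAb (OpenRestrH.img (X := T) U)))).symm
        (CohBase.secEquiv (OpenRestrH.img (X := T) U) _ (𝟙 _))
  have hbij : Function.Bijective (SiteBase.extUnitHom (G := R) η F d) :=
    SiteBase.extUnitHom_bijective η (OpenRestrH.bijective_unit U) (fun I _ m => by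
      haveI : Injective (R.obj I) := LocZLib.injective_restr U I
      exact Ext.subsingleton_of_injective _ _ m) d F
  have h1 : Function.Surjective fun z : CohBase.HU (OpenRestrH.img (X := T) U) F d =>
      z.comp (Ext.mk₀ A) (add_zero d) := by
    intro y
    have hs := S0470.result (X := T) d hd F (OpenRestrH.img (X := T) U)
      (by rw [OpenRestrH.img_eq]; exact hUc) y
    obtain ⟨x, hx⟩ := hs
    obtain ⟨v, hv⟩ := h ((CohBase.HEquiv F d).symm x)
    refine ⟨CohTop.res F d (le_top : OpenRestrH.img (X := T) U ≤ ⊤) (CohBase.HEquiv F d v), ?_⟩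
    show ((Ext.mk₀ (CohCx.freeSheafMap (Opens.grothendieckTopology T)
        (homOfLE (le_top : OpenRestrH.img (X := T) U ≤ ⊤)))).comp (CohBase.HEquiv F d v) (zero_add d)).comp
      (Ext.mk₀ A) (add_zero d) = y
    rw [Ext.comp_assoc_of_third_deg_zero, ← hx]
    refine congrArg (CohTop.res F d (le_top : OpenRestrH.img (X := T) U ≤ ⊤)) ?_
    refine (CohBase.HEquiv_map A d v).symm.trans ?_
    exact (congrArg (CohBase.HEquiv F d) hv).trans (AddEquiv.apply_symm_apply _ _)
  have h2 : Function.Surjective fun z : Ext.{u} (CohBase.freeAb (⊤ : Opens (TopCat.of U))) (R.obj F) d =>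
      z.comp (Ext.mk₀ (R.map A)) (add_zero d) := by
    intro y
    obtain ⟨x, rfl⟩ := hbij.2 y
    obtain ⟨z, rfl⟩ := h1 x
    exact ⟨SiteBase.extUnitHom η F d z, (by
      rw [SiteBase.extUnitHom_comp, Ext.mapExactFunctor_mk₀] : _)⟩
  intro y
  let e := restrOIso U
  let E := CohBase.HEquiv (X := TopCat.of U) (R.obj F) d
  obtain ⟨z, hz⟩ := h2 (E (Sheaf.H.map e.inv d y))
  refine ⟨Sheaf.H.map e.hom d (E.symm z), ?_⟩
  have hz' : Sheaf.H.map (R.map A) d (E.symm z) = Sheaf.H.map e.inv d y := by
    apply E.injective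
    refine (CohBase.HEquiv_map (R.map A) d _).trans ?_
    exact (congrArg (CohBase.hmap ⊤ (R.map A) d) (E.apply_symm_apply z)).trans hz
  rw [Sheaf.H.map_apply, Sheaf.H.map_apply] at hz' ⊢
  rw [Ext.comp_assoc_of_second_deg_zero, Ext.mk₀_comp_mk₀, ← restrOIso_AS p hp h0 U hU, ← Ext.mk₀_comp_mk₀,
    ← Ext.comp_assoc_of_second_deg_zero, hz', Ext.comp_assoc_of_second_deg_zero, Ext.mk₀_comp_mk₀, Iso.inv_hom_id,
    Ext.comp_mk₀_id]

end Groth.Agent.CdpLib
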